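import Cfsg.Agent.Phan.Field

/-!
# Block embeddings between special unitary groups and the elements of `SU_2`
-/

set_option autoImplicit false
set_option linter.unusedSectionVars false

namespace CfsgLib.Phan

open CfsgLib.RepBounds.Unit Matrix

variable {F : Type*} [Field F] [Fintype F] (C : ConjField F)

section ext

variable {ι κ μ : Type*} [Fintype ι] [DecidableEq ι] [Fintype κ] [DecidableEq κ]
  [Fintype μ] [DecidableEq μ]

/-- The coordinates split along an embedding. -/
noncomputable def splitEquiv (e : ι ↪ κ) : {x : κ // x ∉ Set.range e} ⊕ ι ≃ κ :=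
  Equiv.ofBijective (Sum.elim Subtype.val e) (by
    constructor
    · rintro (⟨x, hx⟩ | i) (⟨y, hy⟩ | j) h <;> simp at h
      · subst h; rfl
      · exact absurd ⟨j, h.symm⟩ hx
      · exact absurd ⟨i, h⟩ hy
      · rw [h]
    · intro x
      by_cases hx : x ∈ Set.range e
      · obtain ⟨i, rfl⟩ := hx; exact ⟨Sum.inr i, rfl⟩
      · exact ⟨Sum.inl ⟨x, hx⟩, rfl⟩)

theorem splitEquiv_inr (e : ι ↪ κ) (i : ι) : splitEquiv e (Sum.inr i) = e i := rfl

theorem splitEquiv_inl (e : ι ↪ κ) (x : {x : κ // x ∉ Set.range e}) :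
    splitEquiv e (Sum.inl x) = x.1 := rfl

/-- The block embedding along an embedding of index sets. -/
noncomputable def ext (e : ι ↪ κ) : suG C ι →* suG C κ := by
  classical
  exact (reindexHom C (splitEquiv e)).comp (sumHom C {x : κ // x ∉ Set.range e})

theorem app_ext_mem (e : ι ↪ κ) (g : suG C ι) (x : κ → F) (i : ι) :
    app C (ext C e g) x (e i) = app C g (x ∘ e) i := by
  classical
  show app C (reindexHom C (splitEquiv e) (sumHom C _ g)) x (e i) = _
  rw [app_reindexHom, Function.comp_apply, show (splitEquiv e).symm (e i) = Sum.inr i from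
    (splitEquiv e).injective (by rw [Equiv.apply_symm_apply, splitEquiv_inr]), app_sumHom]
  rfl

theorem app_ext_not_mem (e : ι ↪ κ) (g : suG C ι) (x : κ → F) {k : κ} (hk : k ∉ Set.range e) :
    app C (ext C e g) x k = x k := by
  classical
  show app C (reindexHom C (splitEquiv e) (sumHom C _ g)) x k = _
  rw [app_reindexHom, Function.comp_apply, show (splitEquiv e).symm k = Sum.inl ⟨k, hk⟩ from
    (splitEquiv e).injective (by rw [Equiv.apply_symm_apply, splitEquiv_inl]), app_sumHom]
  rfl

/-- A vector supported on the image of an embedding. -/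
noncomputable def extVec (e : ι ↪ κ) (x : ι → F) : κ → F := Function.extend e x (0 : κ → F)

theorem extVec_mem (e : ι ↪ κ) (x : ι → F) (i : ι) : extVec e x (e i) = x i :=
  e.injective.extend_apply x (0 : κ → F) i

theorem extVec_not_mem (e : ι ↪ κ) (x : ι → F) {k : κ} (hk : k ∉ Set.range e) :
    extVec e x k = 0 :=
  Function.extend_apply' x (0 : κ → F) k (fun ⟨i, hi⟩ => hk ⟨i, hi⟩)

theorem extVec_comp (e : ι ↪ κ) (x : ι → F) : extVec e x ∘ e = x :=
  funext (extVec_mem e x)

theorem app_ext_extVec (e : ι ↪ κ) (g : suG C ι) (x : ι → F) :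
    app C (ext C e g) (extVec e x) = extVec e (app C g x) := by
  funext k
  by_cases hk : k ∈ Set.range e
  · obtain ⟨i, rfl⟩ := hk
    rw [app_ext_mem, extVec_mem, extVec_comp]
  · rw [app_ext_not_mem C e g _ hk, extVec_not_mem e _ hk, extVec_not_mem e _ hk]

theorem app_ext_fix (e : ι ↪ κ) (g : suG C ι) (x : κ → F) (hx : ∀ i, x (e i) = 0) :
    app C (ext C e g) x = x := by
  funext k
  by_cases hk : k ∈ Set.range e
  · obtain ⟨i, rfl⟩ := hk
    rw [app_ext_mem, show x ∘ e = 0 from funext hx, hx]
    simp [app]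
  · rw [app_ext_not_mem C e g _ hk]

theorem extVec_single (e : ι ↪ κ) (i : ι) :
    extVec e (Pi.single i (1 : F)) = Pi.single (e i) 1 := by
  funext k
  by_cases hk : k ∈ Set.range e
  · obtain ⟨j, rfl⟩ := hk
    rw [extVec_mem]
    simp [Pi.single_apply, e.injective.eq_iff]
  · rw [extVec_not_mem e _ hk, Pi.single_eq_of_ne (fun h => hk ⟨i, h.symm⟩)]

theorem herm_extVec (e : ι ↪ κ) (x y : ι → F) :
    herm C (extVec e x) (extVec e y) = herm C x y := by
  classical
  unfold herm
  rw [← Finset.sum_subset (Finset.subset_univ (Finset.univ.image e)) fun k _ hk => by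
    rw [extVec_not_mem e x (by simpa using hk), zero_mul],
    Finset.sum_image e.injective.injOn]
  exact Finset.sum_congr rfl fun i _ => by rw [extVec_mem, extVec_mem]

theorem ext_comp (e : ι ↪ κ) (f : κ ↪ μ) (g : suG C ι) :
    ext C f (ext C e g) = ext C (e.trans f) g := by
  refine suG_ext C fun x => funext fun k => ?_
  by_cases hk : k ∈ Set.range f
  · obtain ⟨j, rfl⟩ := hk
    rw [app_ext_mem]
    by_cases hj : j ∈ Set.range e
    · obtain ⟨i, rfl⟩ := hj
      rw [app_ext_mem, show f (e i) = (e.trans f) i from rfl, app_ext_mem]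
      rfl
    · rw [app_ext_not_mem C e g _ hj, app_ext_not_mem]
      · rfl
      · rintro ⟨i, hi⟩; exact hj ⟨i, f.injective hi⟩
  · rw [app_ext_not_mem C f _ _ hk, app_ext_not_mem]
    rintro ⟨i, rfl⟩; exact hk ⟨e i, rfl⟩

theorem ext_refl (g : suG C ι) : ext C (Function.Embedding.refl ι) g = g :=
  suG_ext C fun x => funext fun k => app_ext_mem C (Function.Embedding.refl ι) g x k

theorem ext_injective (e : ι ↪ κ) : Function.Injective (ext C e) := by
  intro g h hgh
  refine suG_ext C fun x => funext fun i => ?_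
  have := congrArg (fun z => app C z (extVec e x) (e i)) hgh
  simpa [app_ext_mem, extVec_comp] using this

end ext

/-- Consecutive coordinates starting at `i`. -/
def win (d i m : ℕ) (h : i + m ≤ d) : Fin m ↪ Fin d :=
  ⟨fun j => ⟨i + j, by omega⟩, fun a b hab => Fin.ext (by simpa using hab)⟩

theorem win_apply (d i m : ℕ) (h : i + m ≤ d) (j : Fin m) : ((win d i m h j : Fin d) : ℕ) = i + j :=
  rfl

theorem win_trans {d m l i j : ℕ} (h : i + m ≤ d) (h' : j + l ≤ m) :
    (win m j l h').trans (win d i m h) = win d (i + j) l (by omega) := by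
  ext a
  simp [win_apply, Function.Embedding.trans_apply, add_assoc]

theorem win_eq_refl (d : ℕ) (h : 0 + d ≤ d) : win d 0 d h = Function.Embedding.refl _ := by
  ext a
  simp [win_apply]

/-- Block embedding on consecutive coordinates. -/
noncomputable def wext {d m : ℕ} (i : ℕ) (h : i + m ≤ d) : suG C (Fin m) →* suG C (Fin d) :=
  ext C (win d i m h)

theorem wext_wext {d m l i j : ℕ} (h : i + m ≤ d) (h' : j + l ≤ m) (g : suG C (Fin l)) :
    wext C i h (wext C j h' g) = wext C (i + j) (by omega) g := by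
  rw [wext, wext, ext_comp, win_trans h h', wext]

theorem wext_congr {d m i j : ℕ} (e : i = j) (h : i + m ≤ d) (g : suG C (Fin m)) :
    wext C i h g = wext C j (e ▸ h) g := by
  subst e; rfl

theorem wext_zero {d : ℕ} (h : 0 + d ≤ d) (g : suG C (Fin d)) : wext C 0 h g = g := by
  rw [wext, win_eq_refl, ext_refl]

section su2

/-- The matrix with first column `(a, b)`. -/
def suTwoMat (a b : F) : Matrix (Fin 2) (Fin 2) F := !![a, -C.σ b; b, C.σ a]

/-- The element of `SU_2` with first column `(a, b)`. -/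
def suTwo (a b : F) (h : nm C a + nm C b = 1) : suG C (Fin 2) :=
  ⟨⟨suTwoMat C a b, by rw [suTwoMat, Matrix.det_fin_two_of, ← h, nm, nm]; ring⟩, fun u v => by
    simp [suTwoMat, herm, Fin.sum_univ_two, Matrix.mulVec, dotProduct, C.invol]
    simp [nm] at h
    linear_combination (u 0 * C.σ (v 0) + u 1 * C.σ (v 1)) * h⟩

theorem app_suTwo (a b : F) (h : nm C a + nm C b = 1) (x : Fin 2 → F) :
    app C (suTwo C a b h) x = ![a * x 0 - C.σ b * x 1, b * x 0 + C.σ a * x 1] := by
  funext i
  fin_cases i <;> simp [app, suTwo, suTwoMat, Matrix.mulVec, dotProduct, Fin.sum_univ_two, sub_eq_add_neg]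

theorem suTwo_congr {a b a' b' : F} (h : nm C a + nm C b = 1) (h' : nm C a' + nm C b' = 1)
    (ea : a = a') (eb : b = b') : suTwo C a b h = suTwo C a' b' h' := by
  subst ea eb; rfl

end su2

end CfsgLib.Phan
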