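import Cfsg.Agent.Phan.Cover

/-!
# A compatible chain of maps of `SU_3` gives a map of `SU_d`
-/

set_option autoImplicit false

namespace CfsgLib.Phan

open CfsgLib.RepBounds.Unit Matrix

variable {F : Type*} [Field F] [Fintype F] {C : ConjField F} {G : Type*} [Group G]

/-- A compatible chain of maps of `SU_3` with commuting distant members is induced by `SU_d`. -/
theorem exists_chain_hom (hq : 4 ≤ C.q) (d : ℕ) (hd : 3 ≤ d) :
    ∀ (β : ℕ → suG C (Fin 2) →* G) (ψ : ℕ → suG C (Fin 3) →* G),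
      (∀ i, i + 3 ≤ d → ∀ g, ψ i (wext C 0 (by omega : 0 + 2 ≤ 3) g) = β i g ∧
        ψ i (wext C 1 (by omega : 1 + 2 ≤ 3) g) = β (i + 1) g) →
      (∀ i j, i + 2 ≤ j → j + 2 ≤ d → ∀ g g', Commute (β i g) (β j g')) →
      ∃ f : suG C (Fin d) →* G, ∀ (i : ℕ) (hi : i + 2 ≤ d) (g : suG C (Fin 2)),
        f (wext C i hi g) = β i g := by
  induction d, hd using Nat.le_induction with
  | base =>
    intro β ψ hψ _
    refine ⟨ψ 0, fun i hi g => ?_⟩
    rcases (show i = 0 ∨ i = 1 by omega) with rfl | rfl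
    · exact (hψ 0 le_rfl g).1
    · exact (hψ 0 le_rfl g).2
  | succ k hk ih =>
    intro β ψ hψ hc
    obtain ⟨h, hh⟩ := ih (fun i => β (i + 1)) (fun i => ψ (i + 1))
      (fun i hi g => hψ (i + 1) (by omega) g)
      (fun i j hij hj g g' => hc (i + 1) (j + 1) (by omega) (by omega) g g')
    let S : StepData C G k := StepData.ofBlocks (by omega) h (ψ 0) hk
      (fun g => by rw [hh 0 (by omega) g, (hψ 0 (by omega) g).2])
      (fun j hj hj1 g g' => by
        rw [hh j hj g', (hψ 0 (by omega) g).1]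
        exact hc 0 (j + 1) (by omega) (by omega) g g')
    obtain ⟨f, ft, f3⟩ := S.exists_hom (by omega) (S.triLifts hq)
    refine ⟨f, fun i hi g => ?_⟩
    rcases Nat.eq_zero_or_pos i with rfl | hi0
    · rw [show wext C 0 hi g = wext C 0 S.le_three (wext C 0 (by omega : 0 + 2 ≤ 3) g) by
        rw [wext_wext], f3]
      exact (hψ 0 (by omega) g).1
    · rw [show wext C i hi g = wext C 1 StepData.le_tail (wext C (i - 1) (by omega : i - 1 + 2 ≤ k) g) by
        rw [wext_wext]; exact wext_congr C (by omega) _ g, ft]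
      show h (wext C (i - 1) _ g) = _
      rw [hh (i - 1) (by omega) g, show i - 1 + 1 = i by omega]

end CfsgLib.Phan
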