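import Cfsg.Agent.Phan.Edges

/-!
# The covering is trivial: the inductive step
-/

set_option autoImplicit false
set_option linter.unusedSectionVars false

namespace CfsgLib.Phan

open CfsgLib.RepBounds.Unit Matrix

variable {F : Type*} [Field F] [Fintype F] {C : ConjField F}
variable {G : Type*} [Group G] {k : ℕ}

namespace StepData

variable (S : StepData C G k)

/-- A good triangle lifts. -/
theorem good_base {q r : G × suG C (Fin (k + 1))} (hq : S.Edge 1 q) (hr : S.Edge 1 r)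
    (hqr : Adj C (S.pv q) (S.pv r)) (hgood : Good C S.e₀ (S.pv q) (S.pv r)) : S.Edge q r := by
  have hk := S.hk
  obtain ⟨g, g0, gq, gr⟩ := hgood
  set w := app C g⁻¹ S.e₀ with hw
  have hwdec : w = extVec (win (k + 1) 0 3 S.le_three) (w ∘ win (k + 1) 0 3 S.le_three) :=
    eq_extVec _ w fun i hi => g0 i (by omega)
  obtain ⟨x, hx⟩ := S.move (by omega : 2 ≤ 3)
    (v := w ∘ win (k + 1) 0 3 S.le_three) (by
      rw [← herm_extVec C (win (k + 1) 0 3 S.le_three), ← hwdec, hw, herm_app, e₀,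
        herm_basv_self C (by omega)])
  set g1 := g * wext C 0 S.le_three x with hg1
  have hg1e : app C g1 S.e₀ = S.e₀ := by
    rw [hg1, app_mul, e₀, show (basv (k + 1) 0 : Fin (k + 1) → F) = basv _ (0 + 0) from rfl,
      wext_basv C _ (by omega), hx, ← hwdec, hw, app_app_inv]
    rfl
  obtain ⟨y, hy⟩ := exists_tail C (k := k) (by omega) (g := g1) hg1e
  set b := S.tl y with hb
  have hb2 : b.2 = g1 := hy
  have hw3 : ∀ p : G × suG C (Fin (k + 1)), InW C g (S.pv p) →
      ∀ i : Fin (k + 1), 3 ≤ (i : ℕ) → S.pv (b⁻¹ * p) i = 0 := by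
    intro p hp i hi
    rw [S.pv_mul]
    show app C (b.2)⁻¹ _ i = 0
    rw [hb2, hg1, _root_.mul_inv_rev, app_mul, ← map_inv, wext, app_ext_not_mem]
    · exact hp i hi
    · rw [mem_range_win]; omega
  -- the translated lifts lie in the orbit of the three-block
  have key : ∀ p : G × suG C (Fin (k + 1)), S.Edge 1 p → InW C g (S.pv p) →
      ∃ x : suG C (Fin 3), S.Equ (b⁻¹ * p) (S.k3 x) := by
    intro p hp hpW
    have hE : S.Edge 1 (b⁻¹ * p) := by
      refine (hp.mul_left b⁻¹).congr_left ?_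
      show (b⁻¹ * 1)⁻¹ * 1 ∈ S.stab
      rw [mul_one, mul_one, inv_inv]
      exact S.tl_mem y
    set v := S.pv (b⁻¹ * p) with hv
    have hdec : v = extVec (win (k + 1) 0 3 S.le_three) (v ∘ win (k + 1) 0 3 S.le_three) :=
      eq_extVec _ v fun i hi => hw3 p hpW i (by omega)
    obtain ⟨x', hx'⟩ := S.move (by omega : 2 ≤ 3)
      (v := v ∘ win (k + 1) 0 3 S.le_three) (by
        rw [← herm_extVec C (win (k + 1) 0 3 S.le_three), ← hdec, hv, S.herm_pv])
    have hpt : S.pv (S.k3 x') = v := by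
      show app C (wext C 0 S.le_three x') (basv (k + 1) (0 + 0)) = _
      rw [wext_basv C _ (by omega), hx', ← hdec]
    refine ⟨x', S.edge_unique hE (S.edge_k3_base ?_) (a := 1) (by rw [hpt, one_smul])⟩
    rw [hpt, ← S.pv_one]
    exact hE.1
  obtain ⟨x1, h1⟩ := key q hq gq
  obtain ⟨x2, h2⟩ := key r hr gr
  have hE : S.Edge 1 (S.k3 (x1⁻¹ * x2)) := by
    refine S.edge_k3_base ?_
    rw [← S.pv_one]
    obtain ⟨a, ha, ea⟩ := h1.pv
    obtain ⟨a', ha', ea'⟩ := h2.pv
    rw [← S.adj_translate (S.k3 x1), mul_one, ← map_mul, mul_inv_cancel_left, ea, ea',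
      adj_smul_left C ha, adj_smul_right C ha', S.adj_translate]
    exact hqr
  have hE' := hE.mul_left (S.k3 x1)
  rw [mul_one, ← map_mul, mul_inv_cancel_left] at hE'
  have hE'' := ((hE'.congr_left h1.symm).congr_right h2.symm).mul_left b
  rwa [mul_inv_cancel_left, mul_inv_cancel_left] at hE''

theorem good_lift {p q r : G × suG C (Fin (k + 1))} (hq : S.Edge p q) (hr : S.Edge p r)
    (hqr : Adj C (S.pv q) (S.pv r)) (hgood : Good C (S.pv p) (S.pv q) (S.pv r)) : S.Edge q r := by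
  have e1 := hq.mul_left p⁻¹
  have e2 := hr.mul_left p⁻¹
  rw [inv_mul_cancel] at e1 e2
  have h := S.good_base e1 e2 ((S.adj_translate _ _ _).2 hqr) (by
    obtain ⟨g, g0, gq, gr⟩ := hgood
    refine ⟨(p.2)⁻¹ * g, ?_, ?_, ?_⟩ <;> intro i hi <;>
      rw [_root_.mul_inv_rev, inv_inv, app_mul]
    · exact g0 i hi
    · rw [S.pv_mul]
      show app C g⁻¹ (app C p.2 (app C (p.2)⁻¹ _)) i = 0
      rw [app_app_inv]; exact gq i hi
    · rw [S.pv_mul]
      show app C g⁻¹ (app C p.2 (app C (p.2)⁻¹ _)) i = 0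
      rw [app_app_inv]; exact gr i hi)
  have := h.mul_left p
  rwa [mul_inv_cancel_left, mul_inv_cancel_left] at this

/-- Every triangle lifts. -/
def TriLifts : Prop :=
  ∀ p q r : G × suG C (Fin (k + 1)), p ∈ S.Gam → S.Edge p q → S.Edge p r →
    Adj C (S.pv q) (S.pv r) → S.Edge q r

/-- For at least four fixed elements every triangle lifts. -/
theorem triLifts (hq4 : 4 ≤ C.q) : S.TriLifts := by
  intro p q r hp hq hr hqr
  rcases triangle C hq4 S.hk (S.herm_pv p) (S.herm_pv q) (S.herm_pv r) hq.1 hr.1 hqr with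
    h | ⟨x, hx, hpx, hqx, hrx, g1, g2, g3⟩
  · exact S.good_lift hq hr hqr h
  obtain ⟨w, -, hw, rfl⟩ := S.exists_edge hp hx hpx
  have hwq : S.Edge w q := (S.good_lift hq hw hqx g1).symm
  have hwr : S.Edge w r := S.good_lift hw hr hrx.symm g2
  exact S.good_lift hwq hwr hqr g3

/-- Within two steps of the base. -/
def Lift (p : G × suG C (Fin (k + 1))) : Prop :=
  p ∈ S.Gam ∧ (S.Equ 1 p ∨ S.Edge 1 p ∨ ∃ q ∈ S.Gam, S.Edge 1 q ∧ S.Edge q p)

variable {S}

theorem mem_of_equ {p q : G × suG C (Fin (k + 1))} (hp : p ∈ S.Gam) (h : S.Equ p q) : q ∈ S.Gam := by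
  have := mul_mem hp (S.stab_le h)
  rwa [mul_inv_cancel_left] at this

theorem Lift.congr {p q : G × suG C (Fin (k + 1))} (hp : S.Lift p) (h : S.Equ p q) : S.Lift q := by
  refine ⟨mem_of_equ hp.1 h, ?_⟩
  rcases hp.2 with e | e | ⟨r, hr, e1, e2⟩
  · exact Or.inl (e.trans h)
  · exact Or.inr (Or.inl (e.congr_right h))
  · exact Or.inr (Or.inr ⟨r, hr, e1, e2.congr_right h⟩)

theorem Equ.smul_pv {p q : G × suG C (Fin (k + 1))} (h : S.Equ p q) :
    ∃ a : F, S.pv q = a • S.pv p := by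
  obtain ⟨a, -, e⟩ := h.pv
  exact ⟨a, e⟩

/-- A lift over the base point is the base. -/
theorem Lift.base {p : G × suG C (Fin (k + 1))} (hp : S.Lift p) {a : F}
    (h : S.pv p = a • S.e₀) : S.Equ 1 p := by
  rcases hp.2 with e | e | ⟨q, -, e1, e2⟩
  · exact e
  · exact absurd e.1.symm (not_adj_of_smul C (S.herm_pv p) (S.herm_pv 1) (by rw [S.pv_one]; exact h))
  · exact S.edge_unique e1.symm e2 (a := a) (by rw [S.pv_one]; exact h)

/-- A lift over a neighbour of the base point is joined to the base. -/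
theorem Lift.near (htri : S.TriLifts) {p : G × suG C (Fin (k + 1))} (hp : S.Lift p) (h : Adj C S.e₀ (S.pv p)) :
    S.Edge 1 p := by
  rcases hp.2 with e | e | ⟨q, hq, e1, e2⟩
  · obtain ⟨a, ea⟩ := e.smul_pv
    exact absurd h.symm (not_adj_of_smul C (S.herm_pv p) (by rw [← S.pv_one]; exact S.herm_pv 1)
      (by rw [ea, S.pv_one]))
  · exact e
  · exact htri _ _ _ hq e1.symm e2 (by rw [S.pv_one]; exact h)

theorem Lift.far {p : G × suG C (Fin (k + 1))} (hp : S.Lift p) (hadj : ¬ Adj C S.e₀ (S.pv p))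
    (hne : ∀ a : F, S.pv p ≠ a • S.e₀) : ∃ q ∈ S.Gam, S.Edge 1 q ∧ S.Edge q p := by
  rcases hp.2 with e | e | e
  · obtain ⟨a, ea⟩ := e.smul_pv
    exact absurd (by rw [ea, S.pv_one]) (hne a)
  · exact absurd (by rw [← S.pv_one]; exact e.1) hadj
  · exact e

variable (S)

/-- Two-step lifts over a far point are equal. -/
def FarUnique : Prop :=
  ∀ p p' q q' : G × suG C (Fin (k + 1)), ∀ a : F, q ∈ S.Gam → q' ∈ S.Gam → S.Edge 1 q → S.Edge q p →
    S.Edge 1 q' → S.Edge q' p' → ¬ Adj C S.e₀ (S.pv p) → (∀ b : F, S.pv p ≠ b • S.e₀) →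
    S.pv p' = a • S.pv p → S.Equ p p'

/-- The geometric hypotheses of the covering argument. -/
structure Covers : Prop where
  tri : S.TriLifts
  far : S.FarUnique
  common : ∀ u w : Fin (k + 1) → F, herm C u u = 1 → herm C w w = 1 → ¬ Adj C S.e₀ u →
    (∀ b : F, u ≠ b • S.e₀) → ¬ Adj C S.e₀ w → (∀ b : F, w ≠ b • S.e₀) → Adj C u w →
    ∃ x, herm C x x = 1 ∧ Adj C S.e₀ x ∧ Adj C u x ∧ Adj C w x

/-- At three or more fixed elements lifts over a far point are unique as soon as triangles lift. -/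
theorem farUnique (hq : 3 ≤ C.q) (htri : S.TriLifts) : S.FarUnique := by
  intro p p' q q' a hq1 hq1' e1 e2 e1' e2' hadj hb h
  have he : herm C S.e₀ S.e₀ = 1 := by rw [← S.pv_one]; exact S.herm_pv 1
  have ha : nm C a = 1 := nm_of_unit_smul C (S.herm_pv p') (S.herm_pv p) h
  obtain ⟨-, hconn⟩ := nbhd_connected C hq S.hk he (S.herm_pv p) hadj hb
  have hP := hconn (fun b => ∃ q ∈ S.Gam, S.pv q = b ∧ S.Edge 1 q ∧ S.Edge q p) (by
    rintro b c - - - hc hoc huc hbc ⟨s, hs, rfl, s1, s2⟩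
    obtain ⟨s', hs', s1', rfl⟩ := S.exists_edge (one_mem _) hc (by rw [S.pv_one]; exact hoc)
    have hss : S.Edge s s' := htri _ _ _ (one_mem _) s1 s1' hbc
    exact ⟨s', hs', rfl, s1', htri _ _ _ hs hss s2 huc.symm⟩)
    (S.pv q) (S.pv q') (S.herm_pv q) (by rw [← S.pv_one]; exact e1.1) e2.1.symm (S.herm_pv q')
    (by rw [← S.pv_one]; exact e1'.1) (by
      have := e2'.1.symm
      rwa [h, adj_smul_left C ha] at this) ⟨q, hq1, rfl, e1, e2⟩
  obtain ⟨s, -, hs, s1, s2⟩ := hP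
  have hsq : S.Equ s q' := S.edge_unique s1 e1' (a := 1) (by rw [hs, one_smul])
  exact S.edge_unique (s2.congr_left hsq) e2' h

theorem covers (hq : 3 ≤ C.q) (htri : S.TriLifts) : S.Covers :=
  ⟨htri, S.farUnique hq htri, fun u w hu hw h1 h2 h3 h4 h5 =>
    exists_common C hq S.hk (by rw [← S.pv_one]; exact S.herm_pv 1) hu hw h1 h2 h3 h4 h5⟩

variable {S}

/-- Lifts over the same point are equal. -/
theorem Lift.unique (hc : S.Covers) {p p' : G × suG C (Fin (k + 1))} (hp : S.Lift p) (hp' : S.Lift p')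
    {a : F} (h : S.pv p' = a • S.pv p) : S.Equ p p' := by
  have ha : nm C a = 1 := nm_of_unit_smul C (S.herm_pv p') (S.herm_pv p) h
  by_cases hb : ∃ b : F, S.pv p = b • S.e₀
  · obtain ⟨b, hb⟩ := hb
    exact (hp.base hb).symm.trans (hp'.base (a := a * b) (by rw [h, hb, smul_smul]))
  push Not at hb
  by_cases hadj : Adj C S.e₀ (S.pv p)
  · exact S.edge_unique (hp.near hc.tri hadj)
      (hp'.near hc.tri (by rw [h, adj_smul_right C ha]; exact hadj)) h
  have ha0 : a ≠ 0 := fun e => by rw [e, nm_zero] at ha; exact zero_ne_one ha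
  obtain ⟨q, hq, e1, e2⟩ := hp.far hadj hb
  obtain ⟨q', hq', e1', e2'⟩ := hp'.far (by rw [h, adj_smul_right C ha]; exact hadj)
    (fun b hb' => hb (a⁻¹ * b) (by
      rw [mul_smul, ← hb', h, smul_smul, inv_mul_cancel₀ ha0, one_smul]))
  exact hc.far p p' q q' a hq hq' e1 e2 e1' e2' hadj hb h

/-- Lifts are closed under edges. -/
theorem Lift.step (hc : S.Covers) {p r : G × suG C (Fin (k + 1))} (hp : S.Lift p) (hr : r ∈ S.Gam)
    (h : S.Edge p r) : S.Lift r := by
  have he : herm C S.e₀ S.e₀ = 1 := by rw [← S.pv_one]; exact S.herm_pv 1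
  refine ⟨hr, ?_⟩
  by_cases hb : ∃ b : F, S.pv p = b • S.e₀
  · obtain ⟨b, hb⟩ := hb
    exact Or.inr (Or.inl (h.congr_left (hp.base hb).symm))
  push Not at hb
  by_cases hadj : Adj C S.e₀ (S.pv p)
  · exact Or.inr (Or.inr ⟨p, hp.1, hp.near hc.tri hadj, h⟩)
  by_cases hw : ∃ b : F, S.pv r = b • S.e₀
  · obtain ⟨b, hb'⟩ := hw
    have := h.1.symm
    rw [hb', adj_smul_left C (nm_of_unit_smul C (S.herm_pv r) he hb')] at this
    exact absurd this hadj
  push Not at hw
  by_cases hwadj : Adj C S.e₀ (S.pv r)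
  · obtain ⟨qw, hqw, e1, ew⟩ := S.exists_edge (one_mem _) (S.herm_pv r) (by rw [S.pv_one]; exact hwadj)
    obtain ⟨p', hp', e2, ep'⟩ := S.exists_edge hqw (S.herm_pv p) (by rw [ew]; exact h.1.symm)
    have hL : S.Lift p' := ⟨hp', Or.inr (Or.inr ⟨qw, hqw, e1, e2⟩)⟩
    have hEq : S.Equ p' p := hL.unique hc hp (a := 1) (by rw [ep', one_smul])
    have hEq' : S.Equ qw r :=
      S.edge_unique (e2.congr_right hEq).symm h (a := 1) (by rw [ew, one_smul])
    exact Or.inr (Or.inl (e1.congr_right hEq'))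
  · obtain ⟨x, hx, hox, hux, hwx⟩ := hc.common _ _ (S.herm_pv p)
      (S.herm_pv r) hadj hb hwadj hw h.1
    obtain ⟨qx, hqx, e1, ex⟩ := S.exists_edge (one_mem _) hx (by rw [S.pv_one]; exact hox)
    obtain ⟨p', hp', e2, ep'⟩ := S.exists_edge hqx (S.herm_pv p) (by rw [ex]; exact hux.symm)
    have hL : S.Lift p' := ⟨hp', Or.inr (Or.inr ⟨qx, hqx, e1, e2⟩)⟩
    have hEq : S.Equ p' p := hL.unique hc hp (a := 1) (by rw [ep', one_smul])
    exact Or.inr (Or.inr ⟨qx, hqx, e1,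
      hc.tri _ _ _ hp.1 (e2.congr_right hEq).symm h (by rw [ex]; exact hwx.symm)⟩)

variable (S)

theorem lift_mul_up (hc : S.Covers) {p : G × suG C (Fin (k + 1))} (hp : S.Lift p) (g : suG C (Fin 2)) :
    S.Lift (p * S.up g) := by
  set a := app C g (basv 2 0) 0 with ha
  set b := app C g (basv 2 0) 1 with hb
  obtain ⟨hab, hg⟩ := eq_suTwo C g
  have hab' : nm C a + nm C b = 1 := hab
  by_cases hb0 : b = 0
  · refine hp.congr ?_
    show p⁻¹ * (p * S.up g) ∈ S.stab
    rw [inv_mul_cancel_left, hg]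
    have ha1 : nm C a + nm C 0 = 1 := by rw [← hb0]; exact hab'
    rw [suTwo_congr C hab ha1 rfl hb0]
    exact S.torus_mem ha1
  · refine hp.step hc (mul_mem hp.1 (S.up_mem g)) ⟨?_, p, g, Equ.refl S p, Equ.refl S _⟩
    have := S.adj_translate p 1 (S.up g)
    rw [mul_one] at this
    rw [this, S.pv_one]
    unfold Adj
    rw [← conj_herm, nm_conj, e₀, herm_basv_right C _ (Nat.succ_pos k), S.pv_up]
    intro h
    have h' : nm C a = 1 := by simpa [basv] using h
    rw [h'] at hab'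
    exact hb0 ((nm_eq_zero C).1 (by linear_combination hab'))

theorem lift_mem (hc : S.Covers) {p : G × suG C (Fin (k + 1))} (hp : p ∈ S.Gam) : S.Lift p := by
  have hG : S.Gam = Subgroup.closure ((S.stab : Set _) ∪ Set.range S.up) := by
    rw [Subgroup.closure_union, Subgroup.closure_eq, show (Set.range S.up) = (S.up.range : Set _) from
      rfl, Subgroup.closure_eq]
    rfl
  rw [hG] at hp
  induction hp using Subgroup.closure_induction_right with
  | one => exact ⟨one_mem _, Or.inl (Equ.refl S 1)⟩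
  | mul_right x hx y hy ih =>
    rcases hy with hy | ⟨g, rfl⟩
    · exact ih.congr (show x⁻¹ * (x * y) ∈ S.stab by rwa [inv_mul_cancel_left])
    · exact S.lift_mul_up hc ih g
  | mul_inv_cancel x hx y hy ih =>
    rcases hy with hy | ⟨g, rfl⟩
    · exact ih.congr (show x⁻¹ * (x * y⁻¹) ∈ S.stab by rw [inv_mul_cancel_left]; exact inv_mem hy)
    · rw [← map_inv]
      exact S.lift_mul_up hc ih g⁻¹

theorem eq_one_of_gam (hc : S.Covers) {p : G × suG C (Fin (k + 1))} (hp : p ∈ S.Gam) (h2 : p.2 = 1) : p = 1 := by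
  have h := (S.lift_mem hc hp).base (a := 1) (by
    rw [one_smul]
    show app C p.2 S.e₀ = _
    rw [h2, app_one])
  refine S.eq_one_of_stab ?_ h2
  simpa [Equ] using h

theorem exists_gam (hq : 3 ≤ C.q) (g : suG C (Fin (k + 1))) : ∃ p ∈ S.Gam, p.2 = g := by
  have hk := S.hk
  have : blockSub C (k + 1) ≤ S.Gam.map (MonoidHom.snd G (suG C (Fin (k + 1)))) := by
    refine iSup₂_le fun i hi => ?_
    rintro _ ⟨x, rfl⟩
    rcases Nat.eq_zero_or_pos i with rfl | hi0
    · exact ⟨S.up x, S.up_mem x, S.up_snd x⟩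
    · refine ⟨S.tl (wext C (i - 1) (by omega) x), S.stab_le (S.tl_mem _), ?_⟩
      show wext C 1 le_tail (wext C (i - 1) _ x) = _
      rw [wext_wext]
      exact wext_congr C (by omega) _ x
  obtain ⟨p, hp, e⟩ := this (blockSub_eq_top C hq (by omega : 2 ≤ k + 1) ▸
    Subgroup.mem_top g)
  exact ⟨p, hp, e⟩

/-- The inductive step, for a trivial kernel of the covering. -/
theorem exists_hom_of_covers (hc : S.Covers) (hgam : ∀ g, ∃ p ∈ S.Gam, p.2 = g)
    (hk3 : ∀ x, S.k3 x ∈ S.Gam) : ∃ f : suG C (Fin (k + 1)) →* G,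
    (∀ y, f (wext C 1 le_tail y) = S.h y) ∧ ∀ x, f (wext C 0 S.le_three x) = S.ψ x := by
  let π : S.Gam →* suG C (Fin (k + 1)) := (MonoidHom.snd G _).comp S.Gam.subtype
  have hπ : Function.Bijective π := by
    constructor
    · refine (MonoidHom.ker_eq_bot_iff π).1 ?_
      rw [eq_bot_iff]
      rintro ⟨p, hp⟩ h
      exact Subgroup.mem_bot.2 (Subtype.ext (S.eq_one_of_gam hc hp h))
    · intro g
      obtain ⟨p, hp, e⟩ := hgam g
      exact ⟨⟨p, hp⟩, e⟩
  let e := MulEquiv.ofBijective π hπ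
  refine ⟨((MonoidHom.fst G _).comp S.Gam.subtype).comp e.symm.toMonoidHom, fun y => ?_, fun x => ?_⟩
  · have : e.symm (wext C 1 le_tail y) = ⟨S.tl y, S.stab_le (S.tl_mem y)⟩ :=
      e.symm_apply_eq.2 rfl
    show (Subtype.val (e.symm _)).1 = _
    rw [this]
    rfl
  · have : e.symm (wext C 0 S.le_three x) = ⟨S.k3 x, hk3 x⟩ := e.symm_apply_eq.2 rfl
    show (Subtype.val (e.symm _)).1 = _
    rw [this]
    rfl

/-- The inductive step. -/
theorem exists_hom (hq : 3 ≤ C.q) (htri : S.TriLifts) : ∃ f : suG C (Fin (k + 1)) →* G,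
    (∀ y, f (wext C 1 le_tail y) = S.h y) ∧ ∀ x, f (wext C 0 S.le_three x) = S.ψ x :=
  S.exists_hom_of_covers (S.covers hq htri) (S.exists_gam hq) (S.k3_mem hq)

end StepData

end CfsgLib.Phan
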