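import Cfsg.Agent.Phan.Graph

/-!
# The graph of a compatible family of maps: edges and triangles
-/

set_option autoImplicit false
set_option linter.unusedSectionVars false

namespace CfsgLib.Phan

open CfsgLib.RepBounds.Unit Matrix

variable {F : Type*} [Field F] [Fintype F] {C : ConjField F}
variable {G : Type*} [Group G] {k : ℕ}

namespace StepData

variable (S : StepData C G k)

/-- The group generated by the graphs. -/
noncomputable def Gam : Subgroup (G × suG C (Fin (k + 1))) := S.stab ⊔ S.up.range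

theorem stab_le : S.stab ≤ S.Gam := le_sup_left

theorem up_mem (g : suG C (Fin 2)) : S.up g ∈ S.Gam :=
  (le_sup_right : S.up.range ≤ S.Gam) ⟨g, rfl⟩

theorem k3_mem (hq : 3 ≤ C.q) (x : suG C (Fin 3)) : S.k3 x ∈ S.Gam := by
  have : blockSub C 3 ≤ S.Gam.comap S.k3 := by
    refine iSup₂_le fun i hi => ?_
    rintro _ ⟨g, rfl⟩
    rcases (show i = 0 ∨ i = 1 by omega) with rfl | rfl
    · exact S.up_mem g
    · exact Subgroup.mem_comap.2 (by rw [S.k3_low]; exact S.stab_le (S.tl_mem _))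
  exact this (blockSub_eq_top C hq (by omega : 2 ≤ 3) ▸ Subgroup.mem_top x)

/-- The same coset of the stabiliser. -/
def Equ (p q : G × suG C (Fin (k + 1))) : Prop := p⁻¹ * q ∈ S.stab

theorem Equ.refl (p : G × suG C (Fin (k + 1))) : S.Equ p p := by
  show p⁻¹ * p ∈ S.stab
  rw [inv_mul_cancel]; exact one_mem _

variable {S}

theorem Equ.symm {p q : G × suG C (Fin (k + 1))} (h : S.Equ p q) : S.Equ q p := by
  have := S.stab.inv_mem h
  show q⁻¹ * p ∈ S.stab
  rwa [_root_.mul_inv_rev, inv_inv] at this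

theorem Equ.trans {p q r : G × suG C (Fin (k + 1))} (h : S.Equ p q) (h' : S.Equ q r) :
    S.Equ p r := by
  show p⁻¹ * r ∈ S.stab
  rw [show p⁻¹ * r = (p⁻¹ * q) * (q⁻¹ * r) by group]
  exact mul_mem h h'

theorem Equ.mul_left {p q : G × suG C (Fin (k + 1))} (h : S.Equ p q)
    (d : G × suG C (Fin (k + 1))) : S.Equ (d * p) (d * q) := by
  show (d * p)⁻¹ * (d * q) ∈ S.stab
  rwa [show (d * p)⁻¹ * (d * q) = p⁻¹ * q by group]

theorem Equ.pv {p q : G × suG C (Fin (k + 1))} (h : S.Equ p q) :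
    ∃ a : F, nm C a = 1 ∧ S.pv q = a • S.pv p := by
  obtain ⟨a, ha⟩ := S.pv_stab h
  have e : S.pv q = a • S.pv p := by
    rw [show q = p * (p⁻¹ * q) by group, S.pv_mul, ha, app_smul]
    rfl
  exact ⟨a, nm_of_unit_smul C (S.herm_pv q) (S.herm_pv p) e, e⟩

variable (S)

/-- The lifted edges. -/
def Edge (p q : G × suG C (Fin (k + 1))) : Prop :=
  Adj C (S.pv p) (S.pv q) ∧ ∃ γ l, S.Equ p γ ∧ S.Equ q (γ * S.up l)

variable {S}

theorem Edge.congr_right {p q q' : G × suG C (Fin (k + 1))} (h : S.Edge p q) (he : S.Equ q q') :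
    S.Edge p q' := by
  obtain ⟨hadj, γ, l, h1, h2⟩ := h
  obtain ⟨a, ha, e⟩ := he.pv
  exact ⟨by rw [e, adj_smul_right C ha]; exact hadj, γ, l, h1, he.symm.trans h2⟩

theorem Edge.symm {p q : G × suG C (Fin (k + 1))} (h : S.Edge p q) : S.Edge q p := by
  obtain ⟨hadj, γ, l, h1, h2⟩ := h
  refine ⟨hadj.symm, γ * S.up l, l⁻¹, h2, ?_⟩
  rwa [map_inv, mul_inv_cancel_right]

theorem Edge.congr_left {p p' q : G × suG C (Fin (k + 1))} (h : S.Edge p q) (he : S.Equ p p') :
    S.Edge p' q := (h.symm.congr_right he).symm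

variable (S)

theorem adj_translate (d p q : G × suG C (Fin (k + 1))) :
    Adj C (S.pv (d * p)) (S.pv (d * q)) ↔ Adj C (S.pv p) (S.pv q) := by
  unfold Adj
  rw [S.pv_mul, S.pv_mul, herm_app]

variable {S}

theorem Edge.mul_left {p q : G × suG C (Fin (k + 1))} (h : S.Edge p q)
    (d : G × suG C (Fin (k + 1))) : S.Edge (d * p) (d * q) := by
  obtain ⟨hadj, γ, l, h1, h2⟩ := h
  refine ⟨(S.adj_translate d p q).2 hadj, d * γ, l, h1.mul_left d, ?_⟩
  rw [mul_assoc]
  exact h2.mul_left d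

variable (S)

theorem exists_edge_base {v : Fin (k + 1) → F} (hv : herm C v v = 1) (hadj : Adj C S.e₀ v) :
    ∃ q ∈ S.Gam, S.Edge 1 q ∧ S.pv q = v := by
  have hk := S.hk
  have he : herm C S.e₀ S.e₀ = 1 := herm_basv_self C (by omega)
  have hv' : herm C (rem C S.e₀ v) (rem C S.e₀ v) ≠ 0 := by
    rw [norm_rem C he, hv]
    exact sub_ne_zero.2 (Ne.symm (Adj.symm C hadj))
  obtain ⟨b, hb, hnb, hf⟩ := exists_unit_smul C hv'
  set f := b⁻¹ • rem C S.e₀ v with hfdef
  have hf0 : f 0 = 0 := by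
    have := herm_rem C he v
    rw [e₀, herm_basv_right C _ (Nat.succ_pos k)] at this
    rw [hfdef, Pi.smul_apply, smul_eq_mul, show (0 : Fin (k + 1)) = ⟨0, Nat.succ_pos k⟩ from rfl]
    exact mul_eq_zero_of_right _ this
  have h1k : 1 + k ≤ k + 1 := by omega
  have hfdec : f = extVec (win (k + 1) 1 k h1k) (f ∘ win (k + 1) 1 k h1k) :=
    eq_extVec h1k f fun i hi => by rw [show i = 0 from Fin.ext (show (i : ℕ) = 0 by omega), hf0]
  obtain ⟨y, hy⟩ := S.move (by omega : 2 ≤ k) (v := f ∘ win (k + 1) 1 k h1k)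
    (by rw [← herm_extVec C (win (k + 1) 1 k h1k), ← hfdec]; exact hf)
  have g0 : app C (wext C 1 h1k y) (basv (k + 1) 0) = basv (k + 1) 0 :=
    wext_basv_out C h1k (Or.inl (by omega)) y
  have g1 : app C (wext C 1 h1k y) (basv (k + 1) 1) = f := by
    rw [show (basv (k + 1) 1 : Fin (k + 1) → F) = basv _ (1 + 0) by rfl, wext_basv C h1k (by omega), hy,
      ← hfdec]
  have hab : nm C (herm C v S.e₀) + nm C b = 1 := by
    rw [hnb, norm_rem C he, hv]; ring
  refine ⟨S.tl y * S.up (suTwo C _ b hab), mul_mem (S.stab_le (S.tl_mem y)) (S.up_mem _), ?_⟩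
  have hpv : S.pv (S.tl y * S.up (suTwo C _ b hab)) = v := by
    rw [S.pv_mul, S.pv_up, app_suTwo_zero, show (S.tl y).2 = wext C 1 h1k y from rfl, app_add, app_smul, app_smul,
      g0, g1]
    show herm C v S.e₀ • S.e₀ + b • (b⁻¹ • rem C S.e₀ v) = v
    rw [smul_smul, mul_inv_cancel₀ hb, one_smul, rem]
    abel
  refine ⟨⟨by rw [S.pv_one, hpv]; exact hadj, S.tl y, _, ?_, Equ.refl S _⟩, hpv⟩
  show (1 : G × suG C (Fin (k + 1)))⁻¹ * _ ∈ S.stab
  rw [inv_one, one_mul]
  exact S.tl_mem y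

theorem exists_edge {p : G × suG C (Fin (k + 1))} (hp : p ∈ S.Gam) {v : Fin (k + 1) → F}
    (hv : herm C v v = 1) (hadj : Adj C (S.pv p) v) : ∃ q ∈ S.Gam, S.Edge p q ∧ S.pv q = v := by
  obtain ⟨q, hq, hE, hpv⟩ := S.exists_edge_base (v := app C p.2⁻¹ v) (by rw [herm_app]; exact hv) (by
    unfold Adj at hadj ⊢
    rwa [← conj_herm, herm_app_left, conj_herm])
  refine ⟨p * q, mul_mem hp hq, ?_, by rw [S.pv_mul, hpv, app_app_inv]⟩
  have := hE.mul_left p
  rwa [mul_one] at this

theorem k3_stab {x : suG C (Fin 3)} {a : F} (hx : app C x (basv 3 0) = a • basv 3 0) :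
    S.k3 x ∈ S.stab := by
  have he : herm C (basv 3 0 : Fin 3 → F) (basv 3 0) = 1 := herm_basv_self C (by omega)
  have ha : nm C a + nm C 0 = 1 := by
    rw [nm_zero, add_zero]
    exact nm_of_unit_smul C (by rw [herm_app]; exact he) he hx
  set t : suG C (Fin 3) := wext C 0 (by omega : 0 + 2 ≤ 3) (suTwo C a 0 ha) with ht
  have het : app C t (basv 3 0) = a • basv 3 0 := by
    rw [ht, show (basv 3 0 : Fin 3 → F) = basv 3 (0 + 0) from rfl, wext_basv C _ (by omega),
      app_suTwo_zero]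
    funext l
    fin_cases l
    · exact (extVec_mem _ _ 0).trans (by simp [basv])
    · exact (extVec_mem _ _ 1).trans (by simp [basv])
    · rw [extVec_not_mem _ _ (by rw [mem_range_win]; simp)]
      simp [basv]
  obtain ⟨y, hy⟩ := exists_tail C (k := 2) (by omega) (g := t⁻¹ * x) (by
    rw [app_mul, hx, ← het, app_inv_app])
  rw [show x = t * wext C 1 (by omega : 1 + 2 ≤ 3) y by rw [hy, mul_inv_cancel_left], map_mul,
    S.k3_low]
  exact mul_mem (S.torus_mem ha) (S.tl_mem _)

theorem edge_unique_base {q q' : G × suG C (Fin (k + 1))} (h : S.Edge 1 q) (h' : S.Edge 1 q')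
    {a : F} (hpt : S.pv q' = a • S.pv q) : S.Equ q q' := by
  have hk := S.hk
  obtain ⟨hadj, γ, l, h1, h2⟩ := h
  obtain ⟨hadj', γ', l', h1', h2'⟩ := h'
  have hγ : γ ∈ S.stab := by simpa [Equ] using h1
  have hγ' : γ' ∈ S.stab := by simpa [Equ] using h1'
  obtain ⟨c, -, hc⟩ := h2.pv
  obtain ⟨c', -, hc'⟩ := h2'.pv
  set K := γ'⁻¹ * γ with hK
  have hKB : K ∈ S.stab := mul_mem (inv_mem hγ') hγ
  -- both images lie on the same point
  obtain ⟨d, hd⟩ : ∃ d : F, S.pv (K * S.up l) = d • S.pv (S.up l') := by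
    have hc'0 : c' ≠ 0 := by
      intro h0
      have := S.herm_pv (γ' * S.up l')
      rw [hc', h0, zero_smul, herm_zero_left] at this
      exact zero_ne_one this
    have ha0 : a ≠ 0 := by
      intro h0
      have := S.herm_pv q'
      rw [hpt, h0, zero_smul, herm_zero_left] at this
      exact zero_ne_one this
    refine ⟨c * a⁻¹ * c'⁻¹, ?_⟩
    rw [hK, mul_assoc, S.pv_mul]
    show app C (γ'.2)⁻¹ _ = _
    rw [hc, show S.pv q = a⁻¹ • (c'⁻¹ • S.pv (γ' * S.up l')) by
      rw [hc', smul_smul c'⁻¹, inv_mul_cancel₀ hc'0, one_smul, hpt, smul_smul, inv_mul_cancel₀ ha0,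
        one_smul], app_smul, app_smul, app_smul, S.pv_mul, app_inv_app, smul_smul, smul_smul]
  obtain ⟨b, hb, z, hz⟩ := hKB
  rw [S.pv_mul, S.pv_up, S.pv_up] at hd
  set t : suG C (Fin 2) := suTwo C b 0 hb with ht
  have ht0 : app C t (basv 2 0) = ![b, 0] := app_suTwo_zero C b 0 hb
  set a₁ := app C l (basv 2 0) 0
  set b₁ := app C l (basv 2 0) 1
  set a₂ := app C l' (basv 2 0) 0
  set b₂ := app C l' (basv 2 0) 1
  have hK0 : app C K.2 (basv (k + 1) 0) = b • basv (k + 1) 0 := by
    show S.pv K = _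
    rw [hz, S.pv_mul, pv_tl]
    show S.pv (S.up _) = _
    rw [S.pv_up, ht0]
    simp
  have hb1 : b₁ ≠ 0 := by
    intro h0
    have hb' : S.pv q = (c⁻¹ * a₁) • S.pv γ := by
      have h3 : S.pv (γ * S.up l) = a₁ • S.pv γ := by
        rw [S.pv_mul, S.pv_up, app_add, app_smul, app_smul]
        show a₁ • S.pv γ + b₁ • _ = _
        rw [h0, zero_smul, add_zero]
      rw [mul_smul, ← h3, hc, smul_smul, inv_mul_cancel₀, one_smul]
      intro hc0
      have := S.herm_pv (γ * S.up l)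
      rw [hc, hc0, zero_smul, herm_zero_left] at this
      exact zero_ne_one this
    obtain ⟨e, -, hγe⟩ := h1.pv
    rw [hγe, smul_smul] at hb'
    exact not_adj_of_smul C (S.herm_pv q) (S.herm_pv 1) hb' hadj.symm
  -- the image of the second basis vector
  set u := app C K.2 (basv (k + 1) 1) with hu
  have hu0 : u 0 = 0 := by
    have h4 := herm_basv_ne C (F := F) (d := k + 1) (i := 1) (j := 0) (by omega) (by omega)
    rw [← herm_app C K.2, hK0, herm_smul_right, ← hu, herm_basv_right C u (Nat.succ_pos k)] at h4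
    have hb0 : C.σ b ≠ 0 := (map_ne_zero C.σ).2 fun h => by
      rw [h, nm_zero, zero_add] at hb; exact zero_ne_one hb
    exact (mul_eq_zero.1 h4).resolve_left hb0
  rw [app_add, app_smul, app_smul, hK0, ← hu] at hd
  obtain ⟨ν, hν⟩ : ∃ ν : F, u = ν • basv (k + 1) 1 := by
    refine ⟨u ⟨1, by omega⟩, funext fun i => ?_⟩
    by_cases hi0 : (i : ℕ) = 0
    · rw [show i = 0 from Fin.ext hi0, hu0]; simp [basv]
    · by_cases hi1 : (i : ℕ) = 1
      · rw [show i = ⟨1, by omega⟩ from Fin.ext hi1]; simp [basv]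
      · have := congrFun hd i
        simp [basv, hi0, hi1] at this
        rcases this with h | h
        · exact absurd h hb1
        · rw [h]; simp [basv, hi1]
  have h1k : 1 + k ≤ k + 1 := by omega
  have h0k : 0 + 2 ≤ k := by omega
  have hb0 : C.σ b ≠ 0 := (map_ne_zero C.σ).2 fun h => by
    rw [h, nm_zero, zero_add] at hb; exact zero_ne_one hb
  have hte : app C (S.up t).2 (basv (k + 1) 1) = C.σ b • basv (k + 1) 1 := by
    rw [S.up_snd, show (basv (k + 1) 1 : Fin (k + 1) → F) = basv _ (0 + 1) from rfl,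
      wext_basv C _ (by omega), ht, app_suTwo]
    funext i
    by_cases hi : i ∈ Set.range (win (k + 1) 0 2 S.le_two)
    · obtain ⟨j, rfl⟩ := hi
      rw [extVec_mem]
      fin_cases j <;> simp [basv, win_apply]
    · rw [extVec_not_mem _ _ hi]
      rw [mem_range_win] at hi
      simp [basv, show ¬ (i : ℕ) = 1 by omega]
  set μ := ν / C.σ b with hμ
  have hzu : app C z (basv k 0) = μ • basv k 0 := by
    have e : app C (S.up t).2 (extVec (win (k + 1) 1 k h1k) (app C z (basv k 0))) =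
        app C (S.up t).2 (μ • basv (k + 1) 1) := by
      rw [app_smul, hte, smul_smul, hμ, div_mul_cancel₀ _ hb0, ← hν, hu, hz]
      show _ = app C ((S.up t).2 * wext C 1 h1k z) _
      rw [app_mul, show (basv (k + 1) 1 : Fin (k + 1) → F) = basv _ (1 + 0) from rfl,
        wext_basv C h1k (by omega)]
    have e' := congrArg (fun w => app C ((S.up t).2)⁻¹ w ∘ win (k + 1) 1 k h1k) e
    simp only [app_inv_app, extVec_comp] at e'
    rw [e']
    funext j
    simp [basv, win_apply]
  have hμ1 : nm C μ + nm C 0 = 1 := by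
    rw [nm_zero, add_zero]
    exact nm_of_unit_smul C (by rw [herm_app, herm_basv_self C (by omega)])
      (herm_basv_self C (by omega)) hzu
  set s : suG C (Fin 2) := suTwo C μ 0 hμ1 with hs
  have hse : app C (wext C 0 h0k s) (basv k 0) = μ • basv k 0 := by
    rw [show (basv k 0 : Fin k → F) = basv _ (0 + 0) from rfl, wext_basv C h0k (by omega), hs,
      app_suTwo_zero]
    funext i
    by_cases hi : i ∈ Set.range (win k 0 2 h0k)
    · obtain ⟨j, rfl⟩ := hi
      rw [extVec_mem]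
      fin_cases j <;> simp [basv, win_apply]
    · rw [extVec_not_mem _ _ hi]
      rw [mem_range_win] at hi
      simp [basv, show ¬ (i : ℕ) = 0 by omega]
  obtain ⟨j, rfl⟩ : ∃ j, k = j + 1 := ⟨k - 1, by omega⟩
  obtain ⟨z', hz'⟩ := exists_tail C (k := j) (by omega) (g := (wext C 0 h0k s)⁻¹ * z) (by
    rw [app_mul, hzu, ← hse, app_inv_app])
  set Z := S.tl (wext C 1 (by omega : 1 + j ≤ j + 1) z') with hZ
  have hcomm : Commute (S.up l) Z := by
    have := S.commute_up l (y := z')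
    exact this
  set x : suG C (Fin 3) := (wext C 0 (by omega : 0 + 2 ≤ 3) l')⁻¹ *
    (wext C 0 (by omega : 0 + 2 ≤ 3) t * wext C 1 (by omega : 1 + 2 ≤ 3) s *
      wext C 0 (by omega : 0 + 2 ≤ 3) l) with hx
  have hδ : (S.up l')⁻¹ * (K * S.up l) = S.k3 x * Z := by
    rw [hz, show z = wext C 0 h0k s * wext C 1 (by omega : 1 + j ≤ j + 1) z' by
      rw [hz', mul_inv_cancel_left], map_mul, ← hZ, mul_assoc _ _ (S.up l), mul_assoc _ Z (S.up l),
      ← hcomm.eq, hx, map_mul, map_mul, map_mul, map_inv, ← S.k3_low]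
    simp only [up, MonoidHom.comp_apply, mul_assoc]
  have hxe : ∃ e : F, app C x (basv 3 0) = e • basv 3 0 := by
    refine ⟨d, ?_⟩
    have h5 : S.pv ((S.up l')⁻¹ * (K * S.up l)) = d • S.e₀ := by
      rw [S.pv_mul, S.pv_mul]
      show app C ((S.up l').2)⁻¹ (app C K.2 (S.pv (S.up l))) = _
      rw [S.pv_up, app_add, app_smul, app_smul, hK0, ← hu]
      show app C ((S.up l').2)⁻¹ _ = d • S.e₀
      rw [hd, ← S.pv_up, app_smul]
      show d • app C ((S.up l').2)⁻¹ (app C (S.up l').2 S.e₀) = _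
      rw [app_inv_app]
    rw [hδ, S.pv_mul, show S.pv Z = S.e₀ from S.pv_tl _] at h5
    change app C (wext C 0 S.le_three x) S.e₀ = d • S.e₀ at h5
    rw [e₀, show (basv (j + 1 + 1) 0 : Fin _ → F) = basv _ (0 + 0) from rfl,
      wext_basv C _ (by omega)] at h5
    have h6 := congrArg (fun w => w ∘ win (j + 1 + 1) 0 3 S.le_three) h5
    simp only [extVec_comp] at h6
    rw [h6]
    funext i
    simp [basv, win_apply]
  obtain ⟨e, he⟩ := hxe
  have hmem : (S.up l')⁻¹ * (K * S.up l) ∈ S.stab := by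
    rw [hδ]
    exact mul_mem (S.k3_stab he) (S.tl_mem _)
  have hEqu : S.Equ (γ' * S.up l') (γ * S.up l) := by
    show (γ' * S.up l')⁻¹ * (γ * S.up l) ∈ S.stab
    rwa [show (γ' * S.up l')⁻¹ * (γ * S.up l) = (S.up l')⁻¹ * (K * S.up l) by rw [hK]; group]
  exact h2.trans (hEqu.symm.trans h2'.symm)

theorem edge_unique {p q q' : G × suG C (Fin (k + 1))} (h : S.Edge p q) (h' : S.Edge p q')
    {a : F} (hpt : S.pv q' = a • S.pv q) : S.Equ q q' := by
  have e := fun r (hr : S.Edge p r) => (show S.Edge 1 (p⁻¹ * r) by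
    have := hr.mul_left p⁻¹
    rwa [inv_mul_cancel] at this)
  have := (S.edge_unique_base (e q h) (e q' h') (a := a)
    (by rw [S.pv_mul, S.pv_mul, hpt, app_smul])).mul_left p
  rwa [mul_inv_cancel_left, mul_inv_cancel_left] at this

theorem edge_k3_base {x : suG C (Fin 3)} (hadj : Adj C S.e₀ (S.pv (S.k3 x))) :
    S.Edge 1 (S.k3 x) := by
  have hk := S.hk
  set v := app C x (basv 3 0) with hv
  have hpv : S.pv (S.k3 x) = extVec (win (k + 1) 0 3 S.le_three) v := by
    show app C (wext C 0 S.le_three x) (basv (k + 1) (0 + 0)) = _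
    rw [wext_basv C _ (by omega)]
  have hvv : herm C v v = 1 := by rw [hv, herm_app, herm_basv_self C (by omega)]
  set v' := v ∘ win 3 1 2 (by omega) with hv'
  have hsum : nm C (v 0) + herm C v' v' = 1 := by rw [← hvv, herm_split C (k := 2) v v]; rfl
  have hv0 : nm C (v 0) ≠ 1 := by
    intro h0
    refine hadj ?_
    rw [← conj_herm, nm_conj, e₀, herm_basv_right C _ (Nat.succ_pos k), hpv]
    rw [show (⟨0, Nat.succ_pos k⟩ : Fin (k + 1)) = win (k + 1) 0 3 S.le_three 0 from
      Fin.ext (by simp [win_apply]), extVec_mem]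
    exact h0
  obtain ⟨b, hb, hnb, hu⟩ := exists_unit_smul C (z := v') (fun h0 => hv0 (by
    rw [h0, add_zero] at hsum; exact hsum))
  obtain ⟨y, hy⟩ := S.move (by omega : 2 ≤ 2) hu
  have hab : nm C (v 0) + nm C b = 1 := by rw [hnb]; exact hsum
  set x' := wext C 1 (by omega : 1 + 2 ≤ 3) y * wext C 0 (by omega : 0 + 2 ≤ 3) (suTwo C (v 0) b hab)
    with hx'
  have hxv : app C x' (basv 3 0) = v := by
    rw [hx', app_mul, show (basv 3 0 : Fin 3 → F) = basv 3 (0 + 0) from rfl, wext_basv C _ (by omega),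
      app_suTwo_zero]
    have hdec : extVec (win 3 0 2 (by omega)) ![v 0, b] =
        v 0 • (basv 3 0 : Fin 3 → F) + b • basv 3 (1 + 0) := by
      funext i
      fin_cases i
      · exact (extVec_mem _ _ 0).trans (by simp [basv])
      · exact (extVec_mem _ _ 1).trans (by simp [basv])
      · rw [extVec_not_mem _ _ (by rw [mem_range_win]; simp)]
        simp [basv]
    rw [hdec, app_add, app_smul, app_smul, wext_basv_out C _ (Or.inl (by omega)),
      wext_basv C _ (by omega), hy]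
    funext i
    fin_cases i
    · rw [Pi.add_apply, Pi.smul_apply, Pi.smul_apply, extVec_not_mem _ _ (by rw [mem_range_win]; simp)]
      simp [basv]
    · simp only [Pi.add_apply, Pi.smul_apply]
      erw [extVec_mem (win 3 1 2 (by omega)) _ 0]
      simp [basv, hv', hb]
      exact congrArg v (Fin.ext (by simp [win_apply]))
    · simp only [Pi.add_apply, Pi.smul_apply]
      erw [extVec_mem (win 3 1 2 (by omega)) _ 1]
      simp [basv, hv', hb]
      exact congrArg v (Fin.ext (by simp [win_apply]))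
  have hst : S.Equ (S.k3 x') (S.k3 x) := by
    show (S.k3 x')⁻¹ * S.k3 x ∈ S.stab
    rw [← map_inv, ← map_mul]
    refine S.k3_stab (a := 1) ?_
    rw [app_mul, ← hv, ← hxv, app_inv_app, one_smul]
  refine Edge.congr_right ⟨?_, S.k3 (wext C 1 (by omega : 1 + 2 ≤ 3) y), suTwo C (v 0) b hab, ?_, ?_⟩ hst
  · rw [S.pv_one]
    have : S.pv (S.k3 x') = S.pv (S.k3 x) := by
      rw [hpv]
      show app C (wext C 0 S.le_three x') (basv (k + 1) (0 + 0)) = _
      rw [wext_basv C _ (by omega), hxv]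
    rw [this]
    exact hadj
  · show (1 : G × suG C (Fin (k + 1)))⁻¹ * _ ∈ S.stab
    rw [inv_one, one_mul, S.k3_low]
    exact S.tl_mem _
  · rw [hx', map_mul]
    exact Equ.refl S _

end StepData

end CfsgLib.Phan
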