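import Cfsg.Agent.Forms.UnitaryTransvections

/-!
# Norms, traces and fixed elements of a field with an involution
-/

set_option autoImplicit false

namespace CfsgLib.Phan

open CfsgLib.RepBounds.Unit

variable {F : Type*} [Field F] [Fintype F] (C : ConjField F)

/-- The norm to the fixed field. -/
def nm (x : F) : F := x * C.σ x

theorem nm_fixed (x : F) : C.σ (nm C x) = nm C x := by
  rw [nm, map_mul, C.invol, mul_comm]

theorem nm_mul (x y : F) : nm C (x * y) = nm C x * nm C y := by
  simp only [nm, map_mul]; ring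

theorem nm_zero : nm C 0 = 0 := by simp [nm]

theorem nm_one : nm C 1 = 1 := by simp [nm]

theorem nm_neg (x : F) : nm C (-x) = nm C x := by simp [nm]

theorem nm_inv (x : F) : nm C x⁻¹ = (nm C x)⁻¹ := by
  simp only [nm, map_inv₀, mul_inv]

theorem nm_conj (x : F) : nm C (C.σ x) = nm C x := by rw [nm, C.invol, mul_comm, nm]

theorem nm_eq_zero {x : F} : nm C x = 0 ↔ x = 0 := by simp [nm]

theorem exists_nm_eq {c : F} (hc : C.σ c = c) : ∃ a, nm C a = c :=
  CfsgLib.Forms.exists_mul_involution_eq C.ne_id C.invol hc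

theorem exists_tr_eq {c : F} (hc : C.σ c = c) : ∃ a, a + C.σ a = c :=
  CfsgLib.Forms.exists_add_involution_eq C.ne_id C.invol hc

/-- The trace to the fixed field as an additive map. -/
def trHom : F →+ F where
  toFun x := x + C.σ x
  map_zero' := by simp
  map_add' a b := by rw [map_add]; ring

theorem card_fixed [DecidableEq F] : (Finset.univ.filter fun x : F => C.σ x = x).card = C.q := by
  have hr : ((trHom C).range : Set F) = {x | C.σ x = x} := by
    ext c
    constructor
    · rintro ⟨a, rfl⟩
      show C.σ (a + C.σ a) = a + C.σ a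
      rw [map_add, C.invol, add_comm]
    · exact fun hc => exists_tr_eq C hc
  have hk : (trHom C).ker = C.skew := rfl
  have h := AddSubgroup.card_eq_card_quotient_mul_card_addSubgroup (trHom C).ker
  rw [Nat.card_congr (QuotientAddGroup.quotientKerEquivRange (trHom C)).toEquiv, hk, C.card_skew,
    Nat.card_eq_fintype_card, C.card, pow_two] at h
  have h2 : Nat.card (trHom C).range = C.q := (Nat.eq_of_mul_eq_mul_right (by have := C.two_le; omega) h).symm
  rw [← h2, show Nat.card (trHom C).range = Nat.card ({x | C.σ x = x} : Set F) from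
    Nat.card_congr (Equiv.setCongr hr), Nat.card_eq_fintype_card, ← Fintype.card_subtype]
  rfl

/-- There is a fixed element outside any small set. -/
theorem exists_fixed_not_mem [DecidableEq F] (S : Finset F) (h : S.card < C.q) :
    ∃ z, C.σ z = z ∧ z ∉ S := by
  obtain ⟨z, hz, hzS⟩ := Finset.exists_mem_notMem_of_card_lt_card ((card_fixed C).symm ▸ h :
    S.card < (Finset.univ.filter fun x : F => C.σ x = x).card)
  exact ⟨z, (Finset.mem_filter.1 hz).2, hzS⟩

theorem exists_nm_not_mem [DecidableEq F] (S : Finset F) (h : S.card + 1 < C.q) :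
    ∃ a, a ≠ 0 ∧ nm C a ∉ S := by
  obtain ⟨z, hz, hzS⟩ := exists_fixed_not_mem C (insert 0 S)
    (lt_of_le_of_lt (Finset.card_insert_le _ _) h)
  rw [Finset.mem_insert, not_or] at hzS
  obtain ⟨a, rfl⟩ := exists_nm_eq C hz
  exact ⟨a, fun e => hzS.1 (by rw [e, nm_zero]), hzS.2⟩

end CfsgLib.Phan
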