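import Cfsg.Agent.Phan.SUTwoAut

/-!
# Diagonal semilinear automorphisms and the gluing of two consecutive maps of `SU_3`
-/

set_option autoImplicit false
set_option linter.unusedSectionVars false

namespace CfsgLib.Phan

open CfsgLib.RepBounds.Unit Matrix

variable {F : Type*} [Field F] [Fintype F] (C : ConjField F)

section ds

variable {ι κ : Type*} [Fintype ι] [DecidableEq ι] [Fintype κ] [DecidableEq κ]

/-- Semilinear map with diagonal part `c`. -/
def dsVec (τ : F →+* F) (c : ι → F) (x : ι → F) : ι → F := fun i => c i * τ (x i)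

theorem inv_eq_conj {a : F} (ha : nm C a = 1) : a⁻¹ = C.σ a :=
  inv_eq_of_mul_eq_one_right ha

theorem conj_mul_self {a : F} (ha : nm C a = 1) : C.σ a * a = 1 := by
  rw [mul_comm]; exact ha

theorem ne_zero_of_nm {a : F} (ha : nm C a = 1) : a ≠ 0 := fun h => by
  rw [h, nm_zero] at ha; exact zero_ne_one ha

theorem dsVec_surjective (τ : F →+* F) {c : ι → F} (hc : ∀ i, nm C (c i) = 1) :
    Function.Surjective (dsVec τ c) := by
  intro w
  have hs : Function.Surjective τ := Finite.injective_iff_surjective.1 τ.injective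
  choose g hg using hs
  refine ⟨fun i => g (C.σ (c i) * w i), funext fun i => ?_⟩
  rw [dsVec, hg, ← mul_assoc, show c i * C.σ (c i) = 1 from hc i, one_mul]

theorem herm_dsVec (τ : F →+* F) {c : ι → F} (hc : ∀ i, nm C (c i) = 1) (x y : ι → F) :
    herm C (dsVec τ c x) (dsVec τ c y) = τ (herm C x y) := by
  rw [herm, herm, map_sum]
  refine Finset.sum_congr rfl fun i _ => ?_
  have h : c i * C.σ (c i) = 1 := hc i
  simp only [dsVec, map_mul, map_conj]
  linear_combination (τ (x i) * C.σ (τ (y i))) * h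

/-- The matrix of the conjugate. -/
def dsMat (τ : F →+* F) (c : ι → F) (M : Matrix ι ι F) : Matrix ι ι F :=
  Matrix.diagonal c * M.map τ * Matrix.diagonal fun i => C.σ (c i)

theorem dsMat_mulVec (τ : F →+* F) {c : ι → F} (hc : ∀ i, nm C (c i) = 1) (M : Matrix ι ι F)
    (x : ι → F) : dsMat C τ c M *ᵥ dsVec τ c x = dsVec τ c (M *ᵥ x) := by
  have h : (Matrix.diagonal fun i => C.σ (c i)) *ᵥ dsVec τ c x = τ ∘ x := by
    funext i
    rw [Matrix.mulVec_diagonal, dsVec, ← mul_assoc, conj_mul_self C (hc i), one_mul]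
    rfl
  funext i
  rw [dsMat, ← Matrix.mulVec_mulVec, h, ← Matrix.mulVec_mulVec, Matrix.mulVec_diagonal, dsVec]
  congr 1
  exact (RingHom.map_mulVec τ M x i).symm

theorem det_dsMat (τ : F →+* F) {c : ι → F} (hc : ∀ i, nm C (c i) = 1) {M : Matrix ι ι F}
    (hM : M.det = 1) : (dsMat C τ c M).det = 1 := by
  have h1 : (M.map τ).det = 1 := by
    rw [← RingHom.mapMatrix_apply, ← RingHom.map_det, hM, map_one]
  rw [dsMat, Matrix.det_mul, Matrix.det_mul, h1, mul_one, Matrix.det_diagonal,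
    Matrix.det_diagonal, ← Finset.prod_mul_distrib]
  exact Finset.prod_eq_one fun i _ => hc i

/-- Conjugation by a diagonal semilinear isometry. -/
def dsHom (τ : F →+* F) (c : ι → F) (hc : ∀ i, nm C (c i) = 1) : suG C ι →* suG C ι :=
  MonoidHom.mk' (fun g => ⟨⟨dsMat C τ c g.1.1, det_dsMat C τ hc g.1.2⟩, fun u v => by
    obtain ⟨x, rfl⟩ := dsVec_surjective C τ hc u
    obtain ⟨y, rfl⟩ := dsVec_surjective C τ hc v
    show herm C (dsMat C τ c g.1.1 *ᵥ _) (dsMat C τ c g.1.1 *ᵥ _) = _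
    rw [dsMat_mulVec C τ hc, dsMat_mulVec C τ hc, herm_dsVec C τ hc, herm_dsVec C τ hc]
    exact congrArg τ (g.2 x y)⟩)
  fun g h => suG_ext C fun u => by
    obtain ⟨x, rfl⟩ := dsVec_surjective C τ hc u
    rw [app_mul]
    show dsMat C τ c (g * h).1.1 *ᵥ _ = dsMat C τ c g.1.1 *ᵥ (dsMat C τ c h.1.1 *ᵥ _)
    rw [dsMat_mulVec C τ hc, dsMat_mulVec C τ hc, dsMat_mulVec C τ hc]
    exact congrArg _ (app_mul C g h x)

theorem app_dsHom (τ : F →+* F) (c : ι → F) (hc : ∀ i, nm C (c i) = 1) (g : suG C ι) (x : ι → F) :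
    app C (dsHom C τ c hc g) (dsVec τ c x) = dsVec τ c (app C g x) :=
  dsMat_mulVec C τ hc g.1.1 x

theorem dsHom_bijective (τ : F →+* F) (c : ι → F) (hc : ∀ i, nm C (c i) = 1) :
    Function.Bijective (dsHom C τ c hc) := by
  refine Finite.injective_iff_bijective.1 fun g h e => suG_ext C fun x => funext fun i => ?_
  have := congrFun (congrArg (fun z => app C z (dsVec τ c x)) e) i
  simp only [app_dsHom, dsVec] at this
  exact τ.injective (mul_left_cancel₀ (ne_zero_of_nm C (hc i)) this)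

theorem dsHom_ext (τ : F →+* F) (c : κ → F) (hc : ∀ i, nm C (c i) = 1) (e : ι ↪ κ) (g : suG C ι) :
    dsHom C τ c hc (ext C e g) = ext C e (dsHom C τ (c ∘ e) (fun i => hc (e i)) g) := by
  refine suG_ext C fun w => ?_
  obtain ⟨x, rfl⟩ := dsVec_surjective C τ hc w
  rw [app_dsHom]
  funext k
  by_cases hk : k ∈ Set.range e
  · obtain ⟨i, rfl⟩ := hk
    rw [app_ext_mem, show dsVec τ c x ∘ e = dsVec τ (c ∘ e) (x ∘ e) from rfl, app_dsHom]
    show c (e i) * τ _ = c (e i) * τ _
    rw [app_ext_mem]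
  · rw [app_ext_not_mem C _ _ _ hk]
    show c k * τ _ = c k * τ _
    rw [app_ext_not_mem C _ _ _ hk]

end ds

/-- The upper block of `SU_3`. -/
noncomputable def upB : suG C (Fin 2) →* suG C (Fin 3) := wext C 0 (by omega : 0 + 2 ≤ 3)

/-- The lower block of `SU_3`. -/
noncomputable def loB : suG C (Fin 2) →* suG C (Fin 3) := wext C 1 (by omega : 1 + 2 ≤ 3)

theorem app_upB (g : suG C (Fin 2)) (x : Fin 3 → F) :
    app C (upB C g) x = ![app C g ![x 0, x 1] 0, app C g ![x 0, x 1] 1, x 2] := by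
  have h : x ∘ win 3 0 2 (by omega) = ![x 0, x 1] := by
    funext j; fin_cases j <;> rfl
  funext i
  fin_cases i
  · show app C (ext C _ g) x (win 3 0 2 (by omega) 0) = _
    rw [app_ext_mem, h]; rfl
  · show app C (ext C _ g) x (win 3 0 2 (by omega) 1) = _
    rw [app_ext_mem, h]; rfl
  · show app C (ext C _ g) x _ = _
    rw [app_ext_not_mem]
    · rfl
    · rw [mem_range_win]; simp

theorem app_loB (g : suG C (Fin 2)) (x : Fin 3 → F) :
    app C (loB C g) x = ![x 0, app C g ![x 1, x 2] 0, app C g ![x 1, x 2] 1] := by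
  have h : x ∘ win 3 1 2 (by omega) = ![x 1, x 2] := by
    funext j; fin_cases j <;> rfl
  funext i
  fin_cases i
  · show app C (ext C _ g) x _ = _
    rw [app_ext_not_mem]
    · rfl
    · rw [mem_range_win]; simp
  · show app C (ext C _ g) x (win 3 1 2 (by omega) 0) = _
    rw [app_ext_mem, h]; rfl
  · show app C (ext C _ g) x (win 3 1 2 (by omega) 1) = _
    rw [app_ext_mem, h]; rfl

theorem range_eq_sup (hq : 3 ≤ C.q) {H : Type*} [Group H] (f : suG C (Fin 3) →* H) :
    f.range = (f.comp (upB C)).range ⊔ (f.comp (loB C)).range := by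
  have h : blockSub C 3 = (upB C).range ⊔ (loB C).range := by
    refine le_antisymm (iSup₂_le fun i hi => ?_) (sup_le ?_ ?_)
    · rcases (show i = 0 ∨ i = 1 by omega) with rfl | rfl
      · exact le_sup_left
      · exact le_sup_right
    · rintro _ ⟨g, rfl⟩; exact wext_mem_blockSub C _ g
    · rintro _ ⟨g, rfl⟩; exact wext_mem_blockSub C _ g
  rw [MonoidHom.range_comp, MonoidHom.range_comp, ← Subgroup.map_sup, ← h,
    blockSub_eq_top C hq (by omega), ← MonoidHom.range_eq_map]

theorem nm_torus {a : F} (ha : nm C a = 1) : nm C a + nm C 0 = 1 := by rw [nm_zero, add_zero, ha]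

theorem nm_smul_snd {a x y : F} (ha : nm C a = 1) (h : nm C x + nm C y = 1) :
    nm C x + nm C (a * y) = 1 := by rw [nm_mul, ha, one_mul, h]

theorem upB_torus_conj {a x y : F} (ha : nm C a = 1) (h : nm C x + nm C y = 1) :
    upB C (suTwo C a 0 (nm_torus C ha)) * loB C (suTwo C x y h) =
      loB C (suTwo C x (a * y) (nm_smul_snd C ha h)) * upB C (suTwo C a 0 (nm_torus C ha)) := by
  have hh : C.σ a * a = 1 := conj_mul_self C ha
  refine suG_ext C fun w => ?_
  simp only [app_mul, app_upB, app_loB, app_suTwo]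
  funext i
  fin_cases i <;> simp [map_mul]
  · ring
  · linear_combination (-(y * w 1)) * hh

theorem loB_torus_conj {a x y : F} (ha : nm C a = 1) (h : nm C x + nm C y = 1) :
    loB C (suTwo C a 0 (nm_torus C ha)) * upB C (suTwo C x y h) =
      upB C (suTwo C x (a * y) (nm_smul_snd C ha h)) * loB C (suTwo C a 0 (nm_torus C ha)) := by
  have hh : C.σ a * a = 1 := conj_mul_self C ha
  refine suG_ext C fun w => ?_
  simp only [app_mul, app_upB, app_loB, app_suTwo]
  funext i
  fin_cases i <;> simp [map_mul]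
  · linear_combination (-(C.σ y * w 1)) * hh
  · ring

theorem suTwo_inj {a b a' b' : F} {h : nm C a + nm C b = 1} {h' : nm C a' + nm C b' = 1}
    (e : suTwo C a b h = suTwo C a' b' h') : a = a' ∧ b = b' := by
  have := congrArg (fun z => app C z (basv 2 0)) e
  simp only [app_suTwo_zero] at this
  exact ⟨congrFun this 0, congrFun this 1⟩

/-- A map of `SU_3` with prescribed block images. -/
structure IsPair {G : Type*} [Group G] (ψ : suG C (Fin 3) →* G) (A B : Subgroup G) : Prop where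
  inj_up : Function.Injective (ψ.comp (upB C))
  inj_lo : Function.Injective (ψ.comp (loB C))
  range_up : (ψ.comp (upB C)).range = A
  range_lo : (ψ.comp (loB C)).range = B

/-- Two consecutive pairs can be adjusted to agree on the common block. -/
theorem glue (hq : 3 ≤ C.q) {G : Type*} [Group G] {ψ ψ' : suG C (Fin 3) →* G}
    {A B B' : Subgroup G} (h : IsPair C ψ A B) (h' : IsPair C ψ' B B')
    (hc : ∀ x ∈ A, ∀ y ∈ B', Commute x y) :
    ∃ φ : suG C (Fin 3) →* G, IsPair C φ B B' ∧ ∀ g, φ (upB C g) = ψ (loB C g) := by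
  obtain ⟨a, ha, hne⟩ := exists_norm_one_ne C hq
  have ha1 : a ≠ 1 := fun e => hne (by rw [e, map_one])
  set α := ψ.comp (loB C) with hα
  set β := ψ'.comp (upB C) with hβ
  -- the comparison automorphism
  let eα : suG C (Fin 2) ≃* B := (MonoidHom.ofInjective h.inj_lo).trans (MulEquiv.subgroupCongr h.range_lo)
  let eβ : suG C (Fin 2) ≃* B := (MonoidHom.ofInjective h'.inj_up).trans (MulEquiv.subgroupCongr h'.range_up)
  let δ : MulAut (suG C (Fin 2)) := eα.trans eβ.symm
  have hδ : ∀ g, β (δ g) = α g := fun g => by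
    show ((eβ (eβ.symm (eα g)) : B) : G) = _
    rw [eβ.apply_symm_apply]
    rfl
  set t1 := ψ (upB C (suTwo C a 0 (nm_torus C ha))) with ht1
  set t2 := ψ' (loB C (suTwo C a 0 (nm_torus C ha))) with ht2
  have ht12 : Commute t1 t2 := hc _ (h.range_up ▸ ⟨_, rfl⟩) _ (h'.range_lo ▸ ⟨_, rfl⟩)
  have hα1 : ∀ x y (hh : nm C x + nm C y = 1), t1 * α (suTwo C x y hh) =
      α (suTwo C x (a * y) (nm_smul_snd C ha hh)) * t1 := fun x y hh => by
    simp only [hα, ht1, MonoidHom.comp_apply]
    rw [← map_mul, ← map_mul, upB_torus_conj C ha hh]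
  have hβ2 : ∀ x y (hh : nm C x + nm C y = 1), t2 * β (suTwo C x y hh) =
      β (suTwo C x (a * y) (nm_smul_snd C ha hh)) * t2 := fun x y hh => by
    simp only [hβ, ht2, MonoidHom.comp_apply]
    rw [← map_mul, ← map_mul, loB_torus_conj C ha hh]
  have htor : ∀ b (hb : nm C b + nm C 0 = 1), app C (δ (suTwo C b 0 hb)) (basv 2 0) 1 = 0 := by
    intro b hb
    obtain ⟨hh, he⟩ := eq_suTwo C (δ (suTwo C b 0 hb))
    set x := app C (δ (suTwo C b 0 hb)) (basv 2 0) 0 with hx
    set y := app C (δ (suTwo C b 0 hb)) (basv 2 0) 1 with hy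
    have hs : α (suTwo C b 0 hb) = β (suTwo C x y hh) := by rw [← hδ, he]
    set s := α (suTwo C b 0 hb) with hsdef
    have hs1 : Commute t1 s := by
      show t1 * s = s * t1
      rw [hsdef, hα1, suTwo_congr C _ hb rfl (mul_zero a)]
    set s' := β (suTwo C x (a * y) (nm_smul_snd C ha hh)) with hs'def
    have hs' : s' = t2 * s * t2⁻¹ := by rw [eq_mul_inv_iff_mul_eq, hs, hβ2]
    have hs1' : Commute t1 s' := by
      rw [hs']
      exact (ht12.mul_right hs1).mul_right ht12.inv_right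
    obtain ⟨z, hz⟩ : s' ∈ α.range := by
      rw [h.range_lo, ← h'.range_up]; exact ⟨_, rfl⟩
    obtain ⟨hh', hz'⟩ := eq_suTwo C z
    rw [← hz, hz'] at hs1'
    have e1 := hα1 _ _ hh'
    rw [hs1'.eq, mul_left_inj] at e1
    have hz1 : app C z (basv 2 0) 1 = 0 := by
      have := (suTwo_inj C (h.inj_lo e1)).2
      by_contra hne0
      exact ha1 (mul_right_cancel₀ hne0 (by rw [one_mul]; exact this.symm))
    have hzb : Commute z (suTwo C b 0 hb) := by
      rw [hz', suTwo_congr C _ (b := app C z (basv 2 0) 1) (b' := 0)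
        (h' := by rw [← hz1]; exact hh') rfl hz1]
      refine suG_ext C fun w => ?_
      simp only [app_mul, app_suTwo]
      funext i
      fin_cases i <;> simp <;> ring
    have hcomm : Commute (suTwo C x (a * y) (nm_smul_snd C ha hh)) (suTwo C x y hh) := by
      apply h'.inj_up
      show β (_ * _) = β (_ * _)
      rw [map_mul, map_mul, ← hs'def, ← hs, ← hz, hsdef, ← map_mul, ← map_mul, hzb.eq]
    have e2 := congrFun (congrArg (fun w => app C w (basv 2 0)) hcomm.eq) 0
    simp only [app_mul, app_suTwo_zero] at e2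
    simp [app_suTwo, map_mul] at e2
    have e3 : y * C.σ y * (C.σ a - a) = 0 := by linear_combination e2
    rcases mul_eq_zero.1 e3 with e4 | e4
    · exact (nm_eq_zero C).1 e4
    · exact absurd (sub_eq_zero.1 e4) hne
  obtain ⟨τ, c, hcn, hform⟩ := exists_diag_semilinear C hq δ htor
  have hc3 : ∀ i, nm C ((![1, c, 1] : Fin 3 → F) i) = 1 := by
    intro i; fin_cases i <;> simp [nm_one, hcn]
  refine ⟨ψ'.comp (dsHom C τ ![1, c, 1] hc3), ?_⟩
  have hup : ∀ g, ψ' (dsHom C τ ![1, c, 1] hc3 (upB C g)) = α g := by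
    intro g
    rw [upB, wext, dsHom_ext]
    refine Eq.trans ?_ (hδ g)
    show ψ' _ = ψ' (ext C _ (δ g))
    congr 2
    obtain ⟨hh, he⟩ := eq_suTwo C g
    obtain ⟨hh1, he1⟩ := eq_suTwo C (δ g)
    rw [he1]
    obtain ⟨hh2, he2⟩ := eq_suTwo C
      (dsHom C τ ((![1, c, 1] : Fin 3 → F) ∘ win 3 0 2 (by omega)) (fun i => hc3 _) g)
    rw [he2]
    have h1 : dsVec τ ((![1, c, 1] : Fin 3 → F) ∘ win 3 0 2 (by omega)) (basv 2 0) = basv 2 0 := by
      funext i; fin_cases i <;> simp [dsVec, basv, win_apply] <;> rfl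
    have h2 : app C (dsHom C τ ((![1, c, 1] : Fin 3 → F) ∘ win 3 0 2 (by omega)) (fun i => hc3 _) g)
        (basv 2 0) = app C (δ g) (basv 2 0) := by
      conv_lhs => rw [← h1, app_dsHom]
      conv_rhs => rw [he, hform]
      funext i
      fin_cases i
      · show (1 : F) * _ = _
        rw [one_mul]; rfl
      · rfl
    exact suTwo_congr C _ _ (congrFun h2 0) (congrFun h2 1)
  have hlo : (ψ'.comp (dsHom C τ ![1, c, 1] hc3)).comp (loB C) = (ψ'.comp (loB C)).comp
      (dsHom C τ ((![1, c, 1] : Fin 3 → F) ∘ win 3 1 2 (by omega)) (fun i => hc3 _)) :=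
    MonoidHom.ext fun g => congrArg ψ' (dsHom_ext C τ _ hc3 _ g)
  have hup' : (ψ'.comp (dsHom C τ ![1, c, 1] hc3)).comp (upB C) = α := MonoidHom.ext hup
  refine ⟨⟨?_, ?_, ?_, ?_⟩, hup⟩
  · rw [hup']; exact h.inj_lo
  · rw [hlo]; exact h'.inj_lo.comp (dsHom_bijective C _ _ _).1
  · rw [hup']; exact h.range_lo
  · rw [hlo, MonoidHom.range_comp, MonoidHom.range_eq_top.2 (dsHom_bijective C _ _ _).2,
      ← MonoidHom.range_eq_map, h'.range_lo]

end CfsgLib.Phan
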