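import Cfsg.Agent.Phan.Glue
import Cfsg.Agent.Phan.Chain
import Cfsg.Prelude.Def_PhanSystems

/-!
# Standard pairs and the recognition theorem for a system of pairs
-/

set_option autoImplicit false
set_option linter.unusedSectionVars false

namespace CfsgLib.Phan

open CfsgLib.RepBounds.Unit Matrix

variable {F : Type*} [Field F] [Fintype F] (C : ConjField F)

theorem app_basv_eq (g : suG C (Fin 3)) (i : Fin 3) (k : Fin 3) :
    app C g (basv 3 (i : ℕ)) k = g.1.1 k i := by
  rw [show (basv 3 (i : ℕ) : Fin 3 → F) = Pi.single i 1 from funext fun j => by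
    simp [basv, Pi.single_apply, Fin.ext_iff]]
  simp [app, Matrix.mulVec_single_one]

theorem row_of_col (g : suG C (Fin 3)) (i : Fin 3) (h : app C g (basv 3 (i : ℕ)) = basv 3 (i : ℕ))
    (j : Fin 3) : g.1.1 i j = if i = j then 1 else 0 := by
  have e := herm_app C g (basv 3 (j : ℕ)) (basv 3 (i : ℕ))
  rw [h, herm_basv_right C _ i.2, herm_basv_right C _ i.2] at e
  rw [← app_basv_eq]
  simpa [basv, Fin.ext_iff] using e

theorem exists_upB {g : suG C (Fin 3)} (hg : app C g (basv 3 2) = basv 3 2) : ∃ y, upB C y = g := by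
  have hcol : ∀ k, g.1.1 k 2 = if k = 2 then 1 else 0 := fun k => by
    rw [← app_basv_eq C g 2 k, show ((2 : Fin 3) : ℕ) = 2 from rfl, hg]
    simp [basv, Fin.ext_iff]
  have hrow : ∀ j, g.1.1 2 j = if (2 : Fin 3) = j then 1 else 0 := row_of_col C g 2 hg
  have hdet : (!![g.1.1 0 0, g.1.1 0 1; g.1.1 1 0, g.1.1 1 1]).det = 1 := by
    have := g.1.2
    rw [Matrix.det_fin_three] at this
    simp [hcol, hrow] at this
    rw [Matrix.det_fin_two_of]
    exact this
  refine ⟨⟨⟨_, hdet⟩, fun u v => ?_⟩, suG_ext C fun x => ?_⟩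
  · have := herm_app C g ![u 0, u 1, 0] ![v 0, v 1, 0]
    simp [herm, app, Matrix.mulVec, dotProduct, Fin.sum_univ_three, hrow] at this
    simpa [herm, Fin.sum_univ_two, Matrix.mulVec, dotProduct] using this
  · rw [app_upB]
    funext i
    fin_cases i <;> simp [app, Matrix.mulVec, dotProduct, Fin.sum_univ_three, Fin.sum_univ_two, hcol, hrow]

theorem exists_loB {g : suG C (Fin 3)} (hg : app C g (basv 3 0) = basv 3 0) : ∃ y, loB C y = g :=
  exists_tail C (k := 2) (by omega) hg

theorem upB_fix (y : suG C (Fin 2)) : app C (upB C y) (basv 3 2) = basv 3 2 :=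
  wext_basv_out C _ (Or.inr (by omega)) y

theorem loB_fix (y : suG C (Fin 2)) : app C (loB C y) (basv 3 0) = basv 3 0 :=
  wext_basv_out C _ (Or.inl (by omega)) y

theorem upB_injective : Function.Injective (upB C) := ext_injective C _

theorem loB_injective : Function.Injective (loB C) := ext_injective C _

/-- The identification with `SU_3`. -/
noncomputable def toSU : suG C (Fin 3) ≃* Cfsg.SU 3 F C.q := MulEquiv.subgroupCongr (suG_fin_eq C 3)

theorem suBlock_eq (j : Fin 3) (s : Set (Fin 3)) (hs : ∀ k, k ∉ s ↔ k = j)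
    (emb : suG C (Fin 2) →* suG C (Fin 3))
    (hfix : ∀ y, app C (emb y) (basv 3 (j : ℕ)) = basv 3 (j : ℕ))
    (hex : ∀ g, app C g (basv 3 (j : ℕ)) = basv 3 (j : ℕ) → ∃ y, emb y = g) :
    Cfsg.suBlock 3 F C.q s = ((toSU C).toMonoidHom.comp emb).range := by
  refine le_antisymm ((Subgroup.closure_le _).2 ?_) ?_
  · intro A hA
    obtain ⟨g, rfl⟩ := (toSU C).surjective A
    obtain ⟨h1, h2⟩ := hA j ((hs j).2 rfl)
    obtain ⟨y, rfl⟩ := hex g (funext fun k => by
      rw [app_basv_eq]
      by_cases hk : k = j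
      · subst hk
        show (g.1.1 k k) = _
        rw [show g.1.1 k k = 1 from h1]
        simp [basv]
      · rw [show g.1.1 k j = 0 from (h2 k hk).2]
        simp [basv, Fin.val_ne_iff.2 hk])
    exact ⟨y, rfl⟩
  · rintro _ ⟨y, rfl⟩
    refine Subgroup.subset_closure fun k hk => ?_
    obtain rfl := (hs k).1 hk
    have hc : ∀ l, (emb y).1.1 l k = if l = k then 1 else 0 := fun l => by
      rw [← app_basv_eq, hfix]
      simp [basv, Fin.ext_iff]
    refine ⟨(hc k).trans (if_pos rfl), fun l hl => ⟨?_, (hc l).trans (if_neg hl)⟩⟩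
    exact (row_of_col C _ k (hfix y) l).trans (if_neg (Ne.symm hl))

theorem suBlock_upper : Cfsg.suBlock 3 F C.q {0, 1} = ((toSU C).toMonoidHom.comp (upB C)).range :=
  suBlock_eq C 2 _ (by decide) (upB C) (upB_fix C) fun _ hg => exists_upB C hg

theorem suBlock_lower : Cfsg.suBlock 3 F C.q {1, 2} = ((toSU C).toMonoidHom.comp (loB C)).range :=
  suBlock_eq C 0 _ (by decide) (loB C) (loB_fix C) fun _ hg => exists_loB C hg

theorem eq_one_upB (hq : 3 ≤ C.q) {y : suG C (Fin 2)} (hy : ∀ g, Commute g (upB C y)) : y = 1 := by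
  obtain ⟨a, ha, hne⟩ := exists_norm_one_ne C hq
  have ha1 : a ≠ 1 := fun e => hne (by rw [e, map_one])
  obtain ⟨h, he⟩ := eq_suTwo C y
  have e1 := (hy (loB C (suTwo C a 0 (nm_torus C ha)))).eq
  rw [he, loB_torus_conj C ha h, mul_left_inj] at e1
  have hb := (suTwo_inj C (upB_injective C e1)).2
  have hy0 : app C y (basv 2 0) 1 = 0 := by
    by_contra hne0
    exact ha1 (mul_right_cancel₀ hne0 (by rw [one_mul]; exact hb))
  set x := app C y (basv 2 0) 0 with hx
  have hxn : nm C x = 1 := by rw [hy0, nm_zero, add_zero] at h; exact h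
  have hy' : y = suTwo C x 0 (nm_torus C hxn) := he.trans (suTwo_congr C _ _ rfl hy0)
  have h01 : nm C 0 + nm C 1 = 1 := by rw [nm_zero, zero_add, nm_one]
  have e2 := (hy (loB C (suTwo C 0 1 h01))).eq
  rw [hy', upB_torus_conj C hxn h01, mul_left_inj] at e2
  have := (suTwo_inj C (loB_injective C e2)).2
  rw [mul_one] at this
  rw [hy', suTwo_congr C _ (by rw [nm_one, nm_zero, add_zero]) this.symm rfl, suTwo_one_torus]

theorem eq_one_loB (hq : 3 ≤ C.q) {y : suG C (Fin 2)} (hy : ∀ g, Commute g (loB C y)) : y = 1 := by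
  obtain ⟨a, ha, hne⟩ := exists_norm_one_ne C hq
  have ha1 : a ≠ 1 := fun e => hne (by rw [e, map_one])
  obtain ⟨h, he⟩ := eq_suTwo C y
  have e1 := (hy (upB C (suTwo C a 0 (nm_torus C ha)))).eq
  rw [he, upB_torus_conj C ha h, mul_left_inj] at e1
  have hb := (suTwo_inj C (loB_injective C e1)).2
  have hy0 : app C y (basv 2 0) 1 = 0 := by
    by_contra hne0
    exact ha1 (mul_right_cancel₀ hne0 (by rw [one_mul]; exact hb))
  set x := app C y (basv 2 0) 0 with hx
  have hxn : nm C x = 1 := by rw [hy0, nm_zero, add_zero] at h; exact h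
  have hy' : y = suTwo C x 0 (nm_torus C hxn) := he.trans (suTwo_congr C _ _ rfl hy0)
  have h01 : nm C 0 + nm C 1 = 1 := by rw [nm_zero, zero_add, nm_one]
  have e2 := (hy (upB C (suTwo C 0 1 h01))).eq
  rw [hy', loB_torus_conj C hxn h01, mul_left_inj] at e2
  have := (suTwo_inj C (upB_injective C e2)).2
  rw [mul_one] at this
  rw [hy', suTwo_congr C _ (by rw [nm_one, nm_zero, add_zero]) this.symm rfl, suTwo_one_torus]

/-- A standard pair gives a map of `SU_3`. -/
theorem exists_pair_of_standard (hq : 3 ≤ C.q) {G : Type*} [Group G] {V A B : Subgroup G}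
    (h : Cfsg.IsStandardUnitaryPair V A B F C.q) :
    ∃ ψ : suG C (Fin 3) →* G, IsPair C ψ A B ∧ ψ.range = V := by
  rw [Cfsg.IsStandardUnitaryPair, suBlock_upper, suBlock_lower] at h
  simp only [MonoidHom.map_range] at h
  rcases h with ⟨ψ, hA, hB⟩ | ⟨ψ, hA, hB⟩
  · refine ⟨(V.subtype.comp ψ.toMonoidHom).comp (toSU C).toMonoidHom, ⟨?_, ?_, hA, hB⟩, ?_⟩
    · exact ((Subtype.val_injective.comp ψ.injective).comp (toSU C).injective).comp (upB_injective C)
    · exact ((Subtype.val_injective.comp ψ.injective).comp (toSU C).injective).comp (loB_injective C)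
    · rw [MonoidHom.range_comp, MonoidHom.range_eq_top.2 (toSU C).surjective,
        ← MonoidHom.range_eq_map, MonoidHom.range_comp, MonoidHom.range_eq_top.2 ψ.surjective,
        ← MonoidHom.range_eq_map, Subgroup.range_subtype]
  · set mk := QuotientGroup.mk' (Subgroup.center (Cfsg.SU 3 F C.q)) with hmk
    have hcent : ∀ x : suG C (Fin 3),
        (V.subtype.comp (ψ.toMonoidHom.comp mk)) (toSU C x) = 1 → ∀ g, Commute g x := by
      intro x hx g
      have h1 : mk (toSU C x) = 1 := by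
        apply ψ.injective
        rw [map_one]
        exact Subtype.ext hx
      rw [hmk, QuotientGroup.mk'_apply, QuotientGroup.eq_one_iff, Subgroup.mem_center_iff] at h1
      exact (toSU C).injective (by rw [map_mul, map_mul]; exact h1 (toSU C g))
    refine ⟨(V.subtype.comp (ψ.toMonoidHom.comp mk)).comp (toSU C).toMonoidHom,
      ⟨?_, ?_, hA, hB⟩, ?_⟩
    · exact (injective_iff_map_eq_one _).2 fun y hy => eq_one_upB C hq (hcent _ hy)
    · exact (injective_iff_map_eq_one _).2 fun y hy => eq_one_loB C hq (hcent _ hy)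
    · rw [MonoidHom.range_comp, MonoidHom.range_eq_top.2 (toSU C).surjective,
        ← MonoidHom.range_eq_map, MonoidHom.range_comp, MonoidHom.range_eq_top.2
          (ψ.surjective.comp (QuotientGroup.mk'_surjective _)), ← MonoidHom.range_eq_map,
        Subgroup.range_subtype]

variable {C}

/-- A system of pairs can be adjusted to a compatible chain. -/
theorem exists_compatible (hq : 3 ≤ C.q) {G : Type*} [Group G] {n : ℕ} (U : ℕ → Subgroup G)
    (hψ : ∀ i, i + 2 ≤ n → ∃ ψ : suG C (Fin 3) →* G, IsPair C ψ (U i) (U (i + 1)))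
    (hc : ∀ i j, i + 2 ≤ j → j < n → ∀ x ∈ U i, ∀ y ∈ U j, Commute x y) :
    ∀ m, m + 1 ≤ n → ∃ Ψ : ℕ → suG C (Fin 3) →* G, (∀ i < m, IsPair C (Ψ i) (U i) (U (i + 1))) ∧
      ∀ i, i + 1 < m → ∀ g, Ψ (i + 1) (upB C g) = Ψ i (loB C g) := by
  intro m
  induction m with
  | zero =>
    exact fun _ => ⟨fun _ => 1, fun i hi => absurd hi (Nat.not_lt_zero i),
      fun i hi => absurd hi (Nat.not_lt_zero _)⟩
  | succ m ih =>
    intro hm
    obtain ⟨Ψ, hP, hK⟩ := ih (by omega)
    obtain ⟨ψ, hψm⟩ := hψ m (by omega)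
    obtain ⟨φ, hφ, hφK⟩ : ∃ φ : suG C (Fin 3) →* G, IsPair C φ (U m) (U (m + 1)) ∧
        ∀ j, j + 1 = m → ∀ g, φ (upB C g) = Ψ j (loB C g) := by
      rcases m with _ | j
      · exact ⟨ψ, hψm, fun j hj => absurd hj (Nat.succ_ne_zero j)⟩
      · obtain ⟨φ, h1, h2⟩ := glue C hq (hP j (by omega)) hψm (hc j (j + 2) le_rfl (by omega))
        refine ⟨φ, h1, fun j' hj' => ?_⟩
        obtain rfl : j' = j := by omega
        exact h2
    refine ⟨Function.update Ψ m φ, fun i hi => ?_, fun i hi g => ?_⟩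
    · rcases Nat.lt_or_ge i m with him | him
      · rw [Function.update_of_ne (by omega)]; exact hP i him
      · obtain rfl : i = m := by omega
        rw [Function.update_self]; exact hφ
    · rw [Function.update_of_ne (show i ≠ m by omega)]
      rcases Nat.lt_or_ge (i + 1) m with him | him
      · rw [Function.update_of_ne (by omega)]; exact hK i him g
      · obtain rfl : i + 1 = m := by omega
        rw [Function.update_self]; exact hφK i rfl g

/-- A system of pairs with commuting distant members is covered by `SU_{n+1}`. -/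
theorem exists_hom_of_pairs (hq : 4 ≤ C.q) {G : Type*} [Group G] {n : ℕ} (hn : 2 ≤ n)
    (U : ℕ → Subgroup G)
    (hψ : ∀ i, i + 2 ≤ n → ∃ ψ : suG C (Fin 3) →* G, IsPair C ψ (U i) (U (i + 1)))
    (hc : ∀ i j, i + 2 ≤ j → j < n → ∀ x ∈ U i, ∀ y ∈ U j, Commute x y) :
    ∃ f : suG C (Fin (n + 1)) →* G, ∀ i < n, U i ≤ f.range := by
  obtain ⟨Ψ, hP, hK⟩ := exists_compatible (by omega) U hψ hc (n - 1) (by omega)
  let β : ℕ → suG C (Fin 2) →* G := fun i =>
    if i + 1 < n then (Ψ i).comp (upB C) else (Ψ (n - 2)).comp (loB C)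
  have hβ0 : ∀ i, i + 1 < n → β i = (Ψ i).comp (upB C) := fun i hi => if_pos hi
  have hβ1 : ∀ i, i + 1 < n → β (i + 1) = (Ψ i).comp (loB C) := by
    intro i hi
    by_cases h : i + 2 < n
    · show (if i + 1 + 1 < n then _ else _) = _
      rw [if_pos (by omega)]
      exact MonoidHom.ext fun g => hK i (by omega) g
    · show (if i + 1 + 1 < n then _ else _) = _
      rw [if_neg (by omega), show n - 2 = i by omega]
  have hmem : ∀ i, i < n → (β i).range = U i := by
    intro i hi
    by_cases h : i + 1 < n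
    · rw [hβ0 i h]; exact (hP i (by omega)).range_up
    · obtain ⟨j, rfl⟩ : ∃ j, i = j + 1 := ⟨i - 1, by omega⟩
      rw [hβ1 j (by omega)]; exact (hP j (by omega)).range_lo
  obtain ⟨f, hf⟩ := exists_chain_hom hq (n + 1) (by omega) β Ψ
    (fun i hi g => ⟨by rw [hβ0 i (by omega)]; rfl, by rw [hβ1 i (by omega)]; rfl⟩)
    (fun i j hij hj g g' => hc i j hij (by omega) _ (hmem i (by omega) ▸ ⟨g, rfl⟩)
      _ (hmem j (by omega) ▸ ⟨g', rfl⟩))
  refine ⟨f, fun i hi => ?_⟩
  rw [← hmem i hi]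
  rintro _ ⟨g, rfl⟩
  exact ⟨wext C i (by omega) g, hf i (by omega) g⟩

end CfsgLib.Phan
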