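import Cfsg.Agent.Phan.Plane
import Cfsg.Agent.Phan.Glue
import Cfsg.Agent.Phan.Standard

/-!
# A copy of `SU_2` in `SU_3` fixes a unit vector
-/

set_option autoImplicit false
set_option linter.unusedSectionVars false

namespace CfsgLib.Phan

open CfsgLib.RepBounds.Unit Matrix

variable {F : Type*} [Field F] [Fintype F] (C : ConjField F)

theorem transvection_pow {K : Type*} [Field K] {i j : Fin 2} (h : i ≠ j) (c : K) (n : ℕ) :
    (SpecialLinearGroup.transvection h c) ^ n = SpecialLinearGroup.transvection h ((n : K) * c) := by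
  induction n with
  | zero => simp
  | succ n ih =>
    rw [pow_succ, ih, ← SpecialLinearGroup.transvection_add]
    congr 1
    push_cast
    ring

/-- `SU_2` is generated by two commutative sets of elements killed by the characteristic. -/
theorem exists_gens (p : ℕ) [CharP F p] :
    ∃ S : Bool → Set (suG C (Fin 2)), Subgroup.closure (S true ∪ S false) = ⊤ ∧
      ∀ b, (∀ t ∈ S b, t ^ p = 1) ∧ ∀ s ∈ S b, ∀ t ∈ S b, Commute s t := by
  obtain ⟨-, e, -⟩ := exists_equiv C
  have hp0 : ((p : ℕ) : fixField C) = 0 := Subtype.val_injective (by simp)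
  refine ⟨fun b => Set.range fun c : fixField C => e.symm
    (if b then SpecialLinearGroup.transvection (zero_ne_one : (0 : Fin 2) ≠ 1) c
      else SpecialLinearGroup.transvection (one_ne_zero : (1 : Fin 2) ≠ 0) c), ?_, fun b => ⟨?_, ?_⟩⟩
  · rw [eq_top_iff]
    intro x _
    rw [← e.symm_apply_apply x]
    refine Matrix.SL2.transvection_induction
      (P := fun A => e.symm A ∈ Subgroup.closure _) (fun i j h c => ?_)
      (fun A B hA hB => by rw [map_mul]; exact mul_mem hA hB) (e x)
    refine Subgroup.subset_closure ?_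
    fin_cases i <;> fin_cases j <;> (try exact absurd rfl h)
    · exact Or.inl ⟨c, rfl⟩
    · exact Or.inr ⟨c, rfl⟩
  · rintro _ ⟨c, rfl⟩
    cases b <;>
      simp only [← map_pow, Bool.false_eq_true, if_false, if_true, transvection_pow, hp0, zero_mul,
        SpecialLinearGroup.transvection_coeff_zero, map_one]
  · rintro _ ⟨c, rfl⟩ _ ⟨d, rfl⟩
    refine Commute.map ?_ e.symm
    cases b <;> simp only [Bool.false_eq_true, if_false, if_true] <;>
      exact (SpecialLinearGroup.transvection_add _ c d).symm.trans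
        ((congrArg _ (add_comm c d)).trans (SpecialLinearGroup.transvection_add _ d c))

section odd

theorem eq_neg_one_of_sq (h2 : (2 : F) ≠ 0) {y : suG C (Fin 2)} (hy : y * y = 1) (hy1 : y ≠ 1) :
    app C y (basv 2 0) = ![-1, 0] := by
  obtain ⟨h, he⟩ := eq_suTwo C y
  set a := app C y (basv 2 0) 0 with ha
  set b := app C y (basv 2 0) 1 with hb
  have e := congrArg (fun z => app C z (basv 2 0)) hy
  rw [he] at e
  simp only [app_mul, app_one, app_suTwo_zero] at e
  have e0 := congrFun e 0
  have e1 := congrFun e 1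
  simp [app_suTwo, basv] at e0 e1
  have hb0 : b = 0 := by
    by_contra hb0
    have hσa : C.σ a = -a := mul_left_cancel₀ hb0 (by linear_combination e1)
    simp only [nm, hσa] at h
    exact mul_ne_zero h2 one_ne_zero (by linear_combination -e0 - h)
  have ha2 : a * a = 1 := by
    rw [hb] at hb0
    rw [hb0, map_zero, zero_mul, sub_zero] at e0
    exact e0
  rcases mul_self_eq_one_iff.1 ha2 with h1 | h1
  · exact absurd (he.trans ((suTwo_congr C h (by rw [nm_one, nm_zero, add_zero]) h1 hb0).trans
      (suTwo_one_torus C _))) hy1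
  · funext i
    fin_cases i
    · exact h1
    · exact hb0

theorem exists_fixed_odd (hq : 3 ≤ C.q) (h2 : (2 : F) ≠ 0) {α : suG C (Fin 2) →* suG C (Fin 3)}
    (hα : Function.Injective α) : ∃ e, herm C e e = 1 ∧ ∀ g, app C (α g) e = e := by
  obtain ⟨p, hchar⟩ := CharP.exists F
  haveI : Fact p.Prime := ⟨CharP.char_is_prime F p⟩
  have hn : nm C (-1 : F) + nm C 0 = 1 := by rw [nm_neg, nm_one, nm_zero, add_zero]
  set m := suTwo C (-1) 0 hn with hm
  have hmapp : ∀ x : Fin 2 → F, app C m x = -x := fun x => by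
    rw [hm, app_suTwo]; funext i; fin_cases i <;> simp
  have hmc : ∀ g, Commute g m := fun g => suG_ext C fun x => by
    rw [app_mul, app_mul, hmapp, hmapp, ← neg_one_smul F x, app_smul, neg_one_smul]
  have hm1 : m ≠ 1 := fun h => h2 (by
    have := congrFun (congrArg (fun z => app C z (basv 2 0)) h) 0
    simp [hmapp, app_one, basv] at this
    linear_combination -this)
  have hmm : m * m = 1 := suG_ext C fun x => by rw [app_mul, hmapp, hmapp, neg_neg, app_one]
  set z := α m with hz
  have hzz : z * z = 1 := by rw [hz, ← map_mul, hmm, map_one]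
  have hz1 : z ≠ 1 := fun h => hm1 (hα (h.trans (map_one α).symm))
  -- a fixed vector of the involution
  obtain ⟨e, he0, he⟩ : ∃ e, e ≠ 0 ∧ app C z e = e := by
    have hM : z.1.1 * z.1.1 = 1 := congrArg (fun w : suG C (Fin 3) => w.1.1) hzz
    have hdet : (z.1.1 - 1).det = 0 := by
      have e1 : z.1.1 - 1 = z.1.1 * ((-1 : F) • (z.1.1 - 1)) := by
        rw [Matrix.mul_smul, mul_sub, hM, mul_one, neg_one_smul, neg_sub]
      have e2 := congrArg Matrix.det e1
      rw [Matrix.det_mul, z.1.2, one_mul, Matrix.det_smul, Fintype.card_fin] at e2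
      have e3 : (2 : F) * (z.1.1 - 1).det = 0 := by linear_combination e2
      exact (mul_eq_zero.1 e3).resolve_left h2
    obtain ⟨e, he0, he⟩ := Matrix.exists_mulVec_eq_zero_iff.2 hdet
    refine ⟨e, he0, ?_⟩
    rwa [Matrix.sub_mulVec, Matrix.one_mulVec, sub_eq_zero] at he
  obtain ⟨e', hne, he'⟩ : ∃ e', herm C e' e' ≠ 0 ∧ app C z e' = e' := by
    by_cases hee : herm C e e = 0
    swap
    · exact ⟨e, hee, he⟩
    obtain ⟨x, hx⟩ := exists_herm_right C he0
    set y := x + app C z x with hy
    have hyz : app C z y = y := by rw [hy, app_add, ← app_mul, hzz, app_one, add_comm]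
    have hey : herm C e y = 2 := by
      rw [hy, herm_add_right, hx]
      conv_lhs => rw [← he, herm_app, hx]
      norm_num
    by_cases hyy : herm C y y = 0
    swap
    · exact ⟨y, hyy, hyz⟩
    obtain ⟨t, ht⟩ := exists_tr_eq C (c := (1 : F)) (map_one C.σ)
    refine ⟨y + t • e, ?_, by rw [app_add, app_smul, hyz, he]⟩
    simp only [herm_add_left, herm_add_right, herm_smul_left, herm_smul_right, hee, hyy, hey,
      show herm C y e = 2 by rw [← conj_herm, hey]; exact map_ofNat C.σ 2]
    intro h
    exact h2 (by linear_combination h - (2 : F) * ht)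
  obtain ⟨a, ha0, -, hu⟩ := exists_unit_smul C hne
  set u := a⁻¹ • e' with hudef
  have hzu : app C z u = u := by rw [hudef, app_smul, he']
  obtain ⟨g, hg⟩ := exists_move C hq (d := 3) (by omega) hu
  obtain ⟨y, hy⟩ := exists_loB C (g := g⁻¹ * z * g) (by
    rw [app_mul, app_mul, hg, hzu, ← hg, app_inv_app])
  have hyy : y * y = 1 := loB_injective C (by
    rw [map_mul, map_one, hy, show g⁻¹ * z * g * (g⁻¹ * z * g) = g⁻¹ * (z * z) * g by group, hzz]
    group)
  have hy1 : y ≠ 1 := fun h => hz1 (by
    rw [h, map_one] at hy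
    calc z = g * (g⁻¹ * z * g) * g⁻¹ := by group
      _ = 1 := by rw [← hy]; group)
  obtain ⟨hh, hye⟩ := eq_suTwo C y
  have hyv : ∀ x : Fin 2 → F, app C y x = -x := fun x => by
    rw [hye, suTwo_congr C hh hn (congrFun (eq_neg_one_of_sq C h2 hyy hy1) 0)
      (congrFun (eq_neg_one_of_sq C h2 hyy hy1) 1), ← hm, hmapp]
  refine ⟨u, hu, fun h => ?_⟩
  -- every element maps the vector to a multiple of itself
  have hline : ∀ w, app C z w = w → ∃ c : F, w = c • u := by
    intro w hw
    set w' := app C g⁻¹ w with hw'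
    have e1 : app C (loB C y) w' = w' := by
      rw [hy, hw', app_mul, app_mul, app_app_inv, hw]
    rw [app_loB, hyv] at e1
    have c1 : w' 1 = 0 := by
      have := congrFun e1 1
      simp at this
      exact (mul_eq_zero.1 (show (2 : F) * w' 1 = 0 by linear_combination -this)).resolve_left h2
    have c2 : w' 2 = 0 := by
      have := congrFun e1 2
      simp at this
      exact (mul_eq_zero.1 (show (2 : F) * w' 2 = 0 by linear_combination -this)).resolve_left h2
    refine ⟨w' 0, ?_⟩
    rw [← app_app_inv C g w, ← hw', ← hg, ← app_smul]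
    congr 1
    funext i
    fin_cases i
    · simp [basv]
    · simpa [basv] using c1
    · simpa [basv] using c2
  obtain ⟨S, hS, hSp⟩ := exists_gens C p
  let K : Subgroup (suG C (Fin 2)) :=
    { carrier := {g | app C (α g) u = u}
      mul_mem' := fun {g g'} h h' => by
        show app C (α (g * g')) u = u
        rw [map_mul, app_mul, h', h]
      one_mem' := by show app C (α 1) u = u; rw [map_one, app_one]
      inv_mem' := fun {g} h => by
        show app C (α g⁻¹) u = u
        conv_lhs => rw [map_inv, ← h, app_inv_app] }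
  suffices hK : K = ⊤ by exact (hK ▸ Subgroup.mem_top h : h ∈ K)
  rw [eq_top_iff, ← hS, Subgroup.closure_le]
  intro t ht
  have htp : t ^ p = 1 := ht.elim (fun h => (hSp true).1 t h) (fun h => (hSp false).1 t h)
  obtain ⟨c, hc⟩ := hline (app C (α t) u) (by
    rw [← app_mul, hz, ← map_mul, ← (hmc t).eq, map_mul, app_mul, ← hz, hzu])
  have hpow : ∀ n : ℕ, app C (α (t ^ n)) u = c ^ n • u := by
    intro n
    induction n with
    | zero => rw [pow_zero, map_one, app_one, pow_zero, one_smul]
    | succ n ih => rw [pow_succ, map_mul, app_mul, hc, app_smul, ih, smul_smul, ← pow_succ']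
  have hc1 : c ^ p = 1 := by
    have := hpow p
    rw [htp, map_one, app_one] at this
    have h0 : u ≠ 0 := fun h => zero_ne_one (α := F) (by rw [← hu, h, herm_zero_left])
    exact (smul_left_injective F h0 (by show c ^ p • u = (1 : F) • u; rw [← this, one_smul]))
  have : c = 1 := frobenius_inj F p (by simpa [frobenius_def] using hc1)
  show app C (α t) u = u
  rw [hc, this, one_smul]

end odd

section even

theorem involution_center (h2 : (2 : F) = 0) {g : suG C (Fin 3)} (hg : g * g = 1) (hg1 : g ≠ 1) :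
    ∃ x v : Fin 3 → F, v ≠ 0 ∧ v = app C g x + x ∧ herm C v v = 0 ∧
      (∀ y, app C g y = y → herm C y v = 0) ∧ (∀ y, herm C y v = 0 → app C g y = y) := by
  have hadd : ∀ a : Fin 3 → F, a + a = 0 := fun a => by
    rw [← two_smul F a, h2, zero_smul]
  have hgg : ∀ y, app C g (app C g y) = y := fun y => by rw [← app_mul, hg, app_one]
  have hfix : ∀ y, app C g (app C g y + y) = app C g y + y := fun y => by
    rw [app_add, hgg, add_comm]
  have horth : ∀ y w, app C g w = w → herm C w (app C g y + y) = 0 := fun y w hw => by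
    rw [herm_add_right]
    conv_lhs => arg 1; rw [← hw, herm_app]
    rw [← two_mul, h2, zero_mul]
  obtain ⟨x, hx⟩ : ∃ x, app C g x + x ≠ 0 := by
    by_contra! h
    refine hg1 (suG_ext C fun x => ?_)
    rw [app_one]
    calc app C g x = app C g x + (x + x) := by rw [hadd, add_zero]
      _ = (app C g x + x) + x := by rw [add_assoc]
      _ = x := by rw [h, zero_add]
  set v := app C g x + x with hv
  have hvv : herm C v v = 0 := horth x v (hfix x)
  refine ⟨x, v, hx, rfl, hvv, fun y hy => horth x y hy, fun z hz => ?_⟩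
  set w := app C g z + z with hw
  have hwprop : ∀ y, ∃ c : F, app C g y + y = c • v := fun y =>
    isotropic_prop C hx hvv (horth y _ (hfix y)) (horth x _ (hfix y))
  have hwz : ∀ y, herm C w y = 0 := fun y => by
    obtain ⟨c, hc⟩ := hwprop y
    have : herm C z (app C g y + y) = 0 := by rw [hc, herm_smul_right, hz, mul_zero]
    rw [hw, herm_add_left, ← herm_app C g (app C g z) y, hgg, ← herm_add_right]
    exact this
  have hw0 : w = 0 := by
    by_contra h
    obtain ⟨y, hy⟩ := exists_herm_right C h
    exact zero_ne_one (α := F) ((hwz y).symm.trans hy)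
  calc app C g z = app C g z + (z + z) := by rw [hadd, add_zero]
    _ = w + z := by rw [hw, add_assoc]
    _ = z := by rw [hw0, zero_add]

theorem exists_common_center (h2 : (2 : F) = 0) (T : Set (suG C (Fin 3)))
    (hT : ∀ t ∈ T, t * t = 1) (hc : ∀ s ∈ T, ∀ t ∈ T, Commute s t) :
    ∃ v, herm C v v = 0 ∧ ∀ t ∈ T, ∀ y, herm C y v = 0 → app C t y = y := by
  by_cases hall : ∀ t ∈ T, t = 1
  · exact ⟨0, herm_zero_left C _, fun t ht y _ => by rw [hall t ht, app_one]⟩
  push Not at hall
  obtain ⟨g, hg, hg1⟩ := hall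
  obtain ⟨x, v, hv0, hv, hvv, hvfix, hvperp⟩ := involution_center C h2 (hT g hg) hg1
  refine ⟨v, hvv, fun t ht y hy => ?_⟩
  by_cases ht1 : t = 1
  · rw [ht1, app_one]
  obtain ⟨x', w, hw0, hw, hww, hwfix, hwperp⟩ := involution_center C h2 (hT t ht) ht1
  have hgw : app C g w = app C t (app C g x') + app C g x' := by
    rw [hw, app_add, ← app_mul, (hc g hg t ht).eq, app_mul]
  obtain ⟨c, hcw⟩ : ∃ c : F, app C g w = c • w := by
    refine isotropic_prop C hw0 hww (by rw [herm_app, hww]) ?_
    refine hwfix _ ?_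
    rw [hgw, app_add, ← app_mul, hT t ht, app_one, add_comm]
  have hc2 : c * c = 1 := by
    have := congrArg (app C g) hcw
    rw [← app_mul, hT g hg, app_one, app_smul, hcw, smul_smul] at this
    exact smul_left_injective F hw0 (show (c * c) • w = (1 : F) • w by rw [← this, one_smul])
  have hc1 : c = 1 := by
    rcases mul_self_eq_one_iff.1 hc2 with h | h
    · exact h
    · rw [h]; linear_combination -h2
  rw [hc1, one_smul] at hcw
  obtain ⟨d, hd⟩ := isotropic_prop C hv0 hvv hww (hvfix w hcw)
  refine hwperp y ?_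
  rw [hd, herm_smul_right, hy, mul_zero]

theorem exists_fixed_even (h2 : (2 : F) = 0) (α : suG C (Fin 2) →* suG C (Fin 3)) :
    ∃ e, herm C e e = 1 ∧ ∀ g, app C (α g) e = e := by
  obtain ⟨p, hchar⟩ := CharP.exists F
  haveI : Fact p.Prime := ⟨CharP.char_is_prime F p⟩
  have hp : p = 2 := by
    have h := (CharP.cast_eq_zero_iff F p 2).1 (by exact_mod_cast h2)
    exact (Nat.prime_dvd_prime_iff_eq (Fact.out) Nat.prime_two).1 h
  obtain ⟨S, hS, hSp⟩ := exists_gens C p
  have key : ∀ b, ∃ v, herm C v v = 0 ∧ ∀ t ∈ S b, ∀ y, herm C y v = 0 → app C (α t) y = y := by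
    intro b
    obtain ⟨v, hv, hv'⟩ := exists_common_center C h2 (α '' S b)
      (by rintro _ ⟨t, ht, rfl⟩; rw [← map_mul, ← pow_two, show t ^ 2 = 1 from hp ▸ (hSp b).1 t ht, map_one])
      (by rintro _ ⟨s, hs, rfl⟩ _ ⟨t, ht, rfl⟩; exact ((hSp b).2 s hs t ht).map α)
    exact ⟨v, hv, fun t ht => hv' _ ⟨t, ht, rfl⟩⟩
  obtain ⟨v, hv, hv'⟩ := key true
  obtain ⟨w, hw, hw'⟩ := key false
  obtain ⟨e, he, hev, hew⟩ := exists_unit_perp C hv hw
  refine ⟨e, he, fun g => ?_⟩
  let K : Subgroup (suG C (Fin 2)) :=
    { carrier := {g | app C (α g) e = e}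
      mul_mem' := fun {g g'} h h' => by
        show app C (α (g * g')) e = e
        rw [map_mul, app_mul, h', h]
      one_mem' := by show app C (α 1) e = e; rw [map_one, app_one]
      inv_mem' := fun {g} h => by
        show app C (α g⁻¹) e = e
        conv_lhs => rw [map_inv, ← h, app_inv_app] }
  suffices hK : K = ⊤ by exact (hK ▸ Subgroup.mem_top g : g ∈ K)
  rw [eq_top_iff, ← hS, Subgroup.closure_le]
  rintro t (ht | ht)
  · exact hv' t ht e hev
  · exact hw' t ht e hew

end even

/-- A copy of `SU_2` in `SU_3` fixes a unit vector. -/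
theorem exists_fixed_unit (hq : 3 ≤ C.q) {α : suG C (Fin 2) →* suG C (Fin 3)}
    (hα : Function.Injective α) : ∃ e, herm C e e = 1 ∧ ∀ g, app C (α g) e = e := by
  by_cases h2 : (2 : F) = 0
  · exact exists_fixed_even C h2 α
  · exact exists_fixed_odd C hq h2 hα

end CfsgLib.Phan
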