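import Cfsg.Agent.Phan.Blocks

/-!
# Transitivity on unit vectors and generation by consecutive `SU_2` blocks
-/

set_option autoImplicit false
set_option linter.unusedSectionVars false

namespace CfsgLib.Phan

open CfsgLib.RepBounds.Unit Matrix

variable {F : Type*} [Field F] [Fintype F] (C : ConjField F)

/-- The standard basis vector indexed by a natural number. -/
def basv (d i : ℕ) : Fin d → F := fun j => if (j : ℕ) = i then 1 else 0

theorem herm_basv_right {d i : ℕ} (v : Fin d → F) (hi : i < d) :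
    herm C v (basv d i) = v ⟨i, hi⟩ := by
  unfold herm basv
  rw [Finset.sum_eq_single ⟨i, hi⟩ (fun j _ hj => by
    rw [if_neg (fun h => hj (Fin.ext h)), map_zero, mul_zero]) (by simp)]
  simp

theorem herm_basv_self {d i : ℕ} (hi : i < d) : herm C (basv d i : Fin d → F) (basv d i) = 1 := by
  rw [herm_basv_right C _ hi]
  simp [basv]

theorem herm_basv_ne {d i j : ℕ} (hj : j < d) (hne : i ≠ j) :
    herm C (basv d i : Fin d → F) (basv d j) = 0 := by
  rw [herm_basv_right C _ hj]
  simp [basv, Ne.symm hne]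

theorem extVec_basv {d m i l : ℕ} (h : i + m ≤ d) (hl : l < m) :
    extVec (win d i m h) (basv m l : Fin m → F) = basv d (i + l) := by
  funext k
  by_cases hk : k ∈ Set.range (win d i m h)
  · obtain ⟨j, rfl⟩ := hk
    rw [extVec_mem]
    simp [basv, win_apply]
  · rw [extVec_not_mem _ _ hk, basv, if_neg]
    intro hkk
    exact hk ⟨⟨l, hl⟩, Fin.ext (by rw [win_apply]; exact hkk.symm)⟩

theorem mem_range_win {d m i : ℕ} (h : i + m ≤ d) (k : Fin d) :
    k ∈ Set.range (win d i m h) ↔ i ≤ (k : ℕ) ∧ (k : ℕ) < i + m := by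
  constructor
  · rintro ⟨j, rfl⟩; rw [win_apply]; omega
  · intro hk
    exact ⟨⟨k - i, by omega⟩, Fin.ext (by rw [win_apply]; simp; omega)⟩

theorem wext_basv {d m i l : ℕ} (h : i + m ≤ d) (hl : l < m) (g : suG C (Fin m)) :
    app C (wext C i h g) (basv d (i + l)) = extVec (win d i m h) (app C g (basv m l)) := by
  rw [wext, ← app_ext_extVec, extVec_basv h hl]

theorem wext_basv_out {d m i l : ℕ} (h : i + m ≤ d) (hl : l < i ∨ i + m ≤ l) (g : suG C (Fin m)) :
    app C (wext C i h g) (basv d l) = basv d l := by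
  refine app_ext_fix C _ g _ fun j => ?_
  simp only [basv, win_apply]
  exact if_neg (by omega)

theorem eq_extVec {d m i : ℕ} (h : i + m ≤ d) (v : Fin d → F)
    (hv : ∀ k : Fin d, ¬ (i ≤ (k : ℕ) ∧ (k : ℕ) < i + m) → v k = 0) :
    v = extVec (win d i m h) (v ∘ win d i m h) := by
  funext k
  by_cases hk : k ∈ Set.range (win d i m h)
  · obtain ⟨j, rfl⟩ := hk
    rw [extVec_mem]; rfl
  · rw [extVec_not_mem _ _ hk, hv k fun hh => hk ((mem_range_win h k).2 hh)]

theorem app_suTwo_zero (a b : F) (h : nm C a + nm C b = 1) :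
    app C (suTwo C a b h) (basv 2 0) = ![a, b] := by
  rw [app_suTwo]
  simp [basv]

theorem herm_smul_self {ι : Type*} [Fintype ι] (a : F) (v : ι → F) :
    herm C (a • v) (a • v) = nm C a * herm C v v := by
  rw [herm_smul_left, herm_smul_right, nm]; ring

theorem exists_isotropic {ι : Type*} [Fintype ι] {r y : ι → F} (hr : herm C r r = 0)
    (hy : herm C r y = 1) : ∃ c : F, herm C (y + c • r) (y + c • r) = 0 := by
  obtain ⟨c, hc⟩ := exists_tr_eq C (c := -herm C y y) (by rw [map_neg, herm_self_fixed])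
  refine ⟨c, ?_⟩
  rw [herm_add_left, herm_add_right, herm_add_right, herm_smul_left, herm_smul_right,
    herm_smul_right, herm_smul_left, hr, hy, show herm C y r = 1 by rw [← conj_herm, hy, map_one]]
  linear_combination hc

theorem exists_unit_of_pair {ι : Type*} [Fintype ι] {r s : ι → F} (hr : herm C r r = 0)
    (hs : herm C s s = 0) (hrs : herm C r s = 1) {c : F} (hc : c ≠ 0) :
    ∃ e : F, herm C (c • s + e • r) (c • s + e • r) = 1 := by
  obtain ⟨t, ht⟩ := exists_tr_eq C (c := (1 : F)) (map_one C.σ)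
  have hc' : C.σ c ≠ 0 := (map_ne_zero C.σ).2 hc
  refine ⟨t / C.σ c, ?_⟩
  simp only [herm_add_left, herm_add_right, herm_smul_left, herm_smul_right, hr, hs, hrs,
    show herm C s r = 1 by rw [← conj_herm, hrs, map_one], map_div₀, C.invol]
  field_simp
  linear_combination (c * C.σ c) * ht

theorem herm_split {k : ℕ} (v w : Fin (k + 1) → F) :
    herm C v w = v 0 * C.σ (w 0) +
      herm C (v ∘ win (k + 1) 1 k (by omega)) (w ∘ win (k + 1) 1 k (by omega)) := by
  unfold herm
  rw [Fin.sum_univ_succ]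
  congr 1
  refine Finset.sum_congr rfl fun j _ => ?_
  have : (win (k + 1) 1 k (by omega) j : Fin (k + 1)) = j.succ :=
    Fin.ext (by rw [win_apply, Fin.val_succ]; omega)
  show _ = v (win (k + 1) 1 k _ j) * C.σ (w (win (k + 1) 1 k _ j))
  rw [this]

/-- An element fixing the first basis vector lies in the tail block. -/
theorem exists_tail {k : ℕ} (h : 1 + k ≤ k + 1) {g : suG C (Fin (k + 1))}
    (hg : app C g (basv (k + 1) 0) = basv (k + 1) 0) : ∃ y, wext C 1 h y = g := by
  have hcol : ∀ i : Fin (k + 1), g.1.1 i 0 = if i = 0 then 1 else 0 := by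
    intro i
    have := congrFun hg i
    rw [show (basv (k + 1) 0 : Fin (k + 1) → F) = Pi.single 0 1 from funext fun j => by
      refine Fin.cases ?_ (fun l => ?_) j <;> simp [basv]] at this
    simp only [app, Matrix.mulVec_single_one] at this
    simpa [Pi.single_apply] using this
  have hrow : ∀ x, app C g x 0 = x 0 := by
    intro x
    have h1 := herm_basv_right C (app C g x) (Nat.succ_pos k)
    have h2 := herm_basv_right C x (Nat.succ_pos k)
    rw [← hg, herm_app, h2] at h1
    exact h1.symm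
  have hrow' : ∀ j : Fin k, g.1.1 0 j.succ = 0 := by
    intro j
    have := hrow (Pi.single j.succ 1)
    simpa [app, Matrix.mulVec_single_one, Pi.single_apply, (Fin.succ_ne_zero j).symm] using this
  let Y : Matrix (Fin k) (Fin k) F := g.1.1.submatrix Fin.succ Fin.succ
  have hdet : Y.det = 1 := by
    have h1 := g.1.2
    rw [Matrix.det_succ_column_zero, Finset.sum_eq_single 0 (fun i _ hi => by
      rw [hcol, if_neg hi]; ring) (by simp)] at h1
    rw [hcol, if_pos rfl] at h1
    simpa [Y, Fin.succAbove_zero] using h1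
  have hmv : ∀ (x : Fin (k + 1) → F) (i : Fin k), app C g x i.succ = (Y *ᵥ (x ∘ Fin.succ)) i := by
    intro x i
    simp [app, Matrix.mulVec, dotProduct, Fin.sum_univ_succ, hcol, Fin.succ_ne_zero, Y]
  have hwin : ∀ j : Fin k, (win (k + 1) 1 k h j : Fin (k + 1)) = j.succ := fun j =>
    Fin.ext (by rw [win_apply, Fin.val_succ]; omega)
  have hmem : ∀ u v, herm C (Y *ᵥ u) (Y *ᵥ v) = herm C u v := by
    intro u v
    have hh := herm_app C g (Fin.cons 0 u) (Fin.cons 0 v)
    unfold herm at hh ⊢
    simp only [Fin.sum_univ_succ, hrow, hmv, Fin.cons_zero, Fin.cons_succ, zero_mul, zero_add,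
      Fin.cons_comp_succ] at hh
    exact hh
  refine ⟨⟨⟨Y, hdet⟩, hmem⟩, suG_ext C fun x => funext fun i => ?_⟩
  refine Fin.cases ?_ (fun j => ?_) i
  · rw [hrow, wext, app_ext_not_mem]
    rw [mem_range_win]
    simp
  · rw [← hwin, wext, app_ext_mem, hwin, hmv]
    show (Y *ᵥ _) j = _
    rw [show x ∘ (win (k + 1) 1 k h) = x ∘ Fin.succ from funext fun l => by simp [hwin]]

/-- The subgroup generated by the consecutive `SU_2` blocks. -/
noncomputable def blockSub (d : ℕ) : Subgroup (suG C (Fin d)) :=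
  ⨆ (i : ℕ) (h : i + 2 ≤ d), (wext C i h).range

theorem wext_mem_blockSub {d i : ℕ} (h : i + 2 ≤ d) (g : suG C (Fin 2)) :
    wext C i h g ∈ blockSub C d :=
  le_iSup₂ (f := fun (i : ℕ) (h : i + 2 ≤ d) => (wext C i h).range) i h ⟨g, rfl⟩

theorem map_blockSub_le {d m i : ℕ} (h : i + m ≤ d) :
    (blockSub C m).map (wext C i h) ≤ blockSub C d := by
  rw [blockSub, Subgroup.map_iSup]
  refine iSup_le fun j => ?_
  rw [Subgroup.map_iSup]
  refine iSup_le fun hj => ?_
  rintro _ ⟨_, ⟨g, rfl⟩, rfl⟩
  rw [wext_wext]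
  exact wext_mem_blockSub C _ g

theorem gen_aux (hq : 3 ≤ C.q) (k : ℕ) (hk : 1 ≤ k) :
    blockSub C (k + 1) = ⊤ ∧ ∀ v, herm C v v = 1 →
      ∃ g : suG C (Fin (k + 1)), app C g (basv (k + 1) 0) = v := by
  induction k, hk using Nat.le_induction with
  | base =>
    constructor
    · refine (Subgroup.eq_top_iff' _).2 fun g => ?_
      rw [← wext_zero C (show 0 + 2 ≤ 2 by omega) g]
      exact wext_mem_blockSub C _ g
    · intro v hv
      have h : nm C (v 0) + nm C (v 1) = 1 := by
        rw [← hv]; simp [herm, Fin.sum_univ_two, nm]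
      exact ⟨suTwo C (v 0) (v 1) h, by rw [app_suTwo_zero]; funext i; fin_cases i <;> rfl⟩
  | succ k hk ih =>
    classical
    obtain ⟨ihgen, ihtr⟩ := ih
    set K := blockSub C (k + 1 + 1) with hK
    have h1 : 1 + (k + 1) ≤ k + 1 + 1 := by omega
    have h0 : 0 + 2 ≤ k + 1 + 1 := by omega
    have htail : ∀ y, wext C 1 h1 y ∈ K := fun y =>
      map_blockSub_le C h1 ⟨y, ihgen ▸ Subgroup.mem_top y, rfl⟩
    have hadj : ∀ v, herm C v v = 1 → nm C (v 0) ≠ 1 →
        ∃ g ∈ K, app C g (basv (k + 1 + 1) 0) = v := by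
      intro v hv ha
      set v' := v ∘ win (k + 1 + 1) 1 (k + 1) h1 with hv'
      have hsum : nm C (v 0) + herm C v' v' = 1 := by
        rw [← hv, herm_split C v v]; rfl
      obtain ⟨b, hb⟩ := exists_nm_eq C (herm_self_fixed C v')
      have hb0 : b ≠ 0 := by
        rintro rfl
        rw [nm_zero] at hb
        rw [← hb, add_zero] at hsum
        exact ha hsum
      have hu : herm C (b⁻¹ • v') (b⁻¹ • v') = 1 := by
        rw [herm_smul_self, nm_inv, hb, inv_mul_cancel₀]
        rw [← hb]; exact fun e => hb0 ((nm_eq_zero C).1 e)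
      obtain ⟨y, hy⟩ := ihtr _ hu
      have hab : nm C (v 0) + nm C b = 1 := by rw [hb]; exact hsum
      refine ⟨wext C 1 h1 y * wext C 0 h0 (suTwo C (v 0) b hab),
        K.mul_mem (htail y) (wext_mem_blockSub C _ _), ?_⟩
      rw [app_mul, show (basv (k + 1 + 1) 0 : Fin _ → F) = basv _ (0 + 0) by rfl,
        wext_basv C h0 (by omega), app_suTwo_zero]
      have hdec : extVec (win (k + 1 + 1) 0 2 h0) ![v 0, b] =
          v 0 • basv (k + 1 + 1) 0 + b • basv (k + 1 + 1) (1 + 0) := by
        conv_lhs => rw [show (![v 0, b] : Fin 2 → F) = ![v 0, b] from rfl]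
        funext i
        by_cases hi : i ∈ Set.range (win (k + 1 + 1) 0 2 h0)
        · obtain ⟨j, rfl⟩ := hi
          rw [extVec_mem]
          fin_cases j <;> simp [basv, win_apply]
        · rw [extVec_not_mem _ _ hi]
          rw [mem_range_win] at hi
          simp [basv, show ¬ (i : ℕ) = 0 by omega, show ¬ (i : ℕ) = 1 by omega]
      rw [hdec, app_add, app_smul, app_smul, wext_basv_out C h1 (Or.inl (by omega)),
        wext_basv C h1 (by omega), hy]
      funext i
      by_cases hi : i ∈ Set.range (win (k + 1 + 1) 1 (k + 1) h1)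
      · obtain ⟨j, rfl⟩ := hi
        rw [Pi.add_apply, Pi.smul_apply, Pi.smul_apply, extVec_mem]
        simp [basv, win_apply, hv', hb0]
      · rw [Pi.add_apply, Pi.smul_apply, Pi.smul_apply, extVec_not_mem _ _ hi]
        rw [mem_range_win] at hi
        have : i = 0 := Fin.ext (show (i : ℕ) = 0 by omega)
        subst this
        simp [basv]
    have htrans : ∀ v, herm C v v = 1 → ∃ g ∈ K, app C g (basv (k + 1 + 1) 0) = v := by
      intro v hv
      by_cases ha : nm C (v 0) ≠ 1
      · exact hadj v hv ha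
      push Not at ha
      set v' := v ∘ win (k + 1 + 1) 1 (k + 1) h1 with hv'
      have hiso : herm C v' v' = 0 := by
        have := herm_split C v v
        rw [hv, show v 0 * C.σ (v 0) = 1 from ha] at this
        linear_combination -this
      by_cases hz : v' = 0
      · refine ⟨wext C 0 h0 (suTwo C (v 0) 0 (by rw [ha, nm_zero, add_zero])),
          wext_mem_blockSub C _ _, ?_⟩
        rw [show (basv (k + 1 + 1) 0 : Fin _ → F) = basv _ (0 + 0) by rfl,
          wext_basv C h0 (by omega), app_suTwo_zero]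
        funext i
        by_cases hi : i ∈ Set.range (win (k + 1 + 1) 0 2 h0)
        · obtain ⟨j, rfl⟩ := hi
          rw [extVec_mem]
          fin_cases j
          · exact congrArg v (Fin.ext rfl)
          · exact (congrFun hz ⟨0, by omega⟩).symm.trans (congrArg v (Fin.ext rfl))
        · rw [extVec_not_mem _ _ hi]
          rw [mem_range_win] at hi
          exact ((congrArg v (Fin.ext (by rw [win_apply]; simp; omega))).trans
            (congrFun hz ⟨i - 1, by omega⟩)).symm
      · obtain ⟨y0, hy0⟩ := exists_herm_eq C hz 1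
        have hy0' : herm C v' y0 = 1 := by rw [← conj_herm, hy0, map_one]
        obtain ⟨c, hc⟩ := exists_isotropic C hiso hy0'
        set s := y0 + c • v' with hs
        have hrs : herm C v' s = 1 := by
          rw [hs, herm_add_right, herm_smul_right, hiso, hy0', mul_zero, add_zero]
        obtain ⟨γ, hγ0, hγ⟩ := exists_nm_not_mem C {1} (by simp; omega)
        obtain ⟨e, he⟩ := exists_unit_of_pair C hiso hc hrs hγ0
        set x' := γ • s + e • v' with hx'
        set x := extVec (win (k + 1 + 1) 1 (k + 1) h1) x' with hx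
        have hxn : herm C x x = 1 := by rw [hx, herm_extVec]; exact he
        have hx0 : x 0 = 0 := by
          rw [hx, extVec_not_mem]
          rw [mem_range_win]; simp
        obtain ⟨g, hgK, hg⟩ := hadj x hxn (by rw [hx0, nm_zero]; exact zero_ne_one)
        have hvx : herm C v x = C.σ γ := by
          rw [herm_split C v x, hx0, map_zero, mul_zero, zero_add, hx, extVec_comp, hx', ← hv',
            herm_add_right, herm_smul_right, herm_smul_right, hrs, hiso]
          ring
        set w := app C g⁻¹ v with hw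
        have hwn : herm C w w = 1 := by rw [hw, herm_app]; exact hv
        have hw0 : nm C (w 0) ≠ 1 := by
          have e1 := herm_basv_right C w (Nat.succ_pos (k + 1))
          rw [hw, herm_app_left, hg, hvx] at e1
          rw [show w 0 = app C g⁻¹ v ⟨0, Nat.succ_pos _⟩ from rfl, ← e1, nm_conj]
          simpa using hγ
        obtain ⟨g', hg'K, hg'⟩ := hadj w hwn hw0
        exact ⟨g * g', K.mul_mem hgK hg'K, by rw [app_mul, hg', hw, app_app_inv]⟩
    refine ⟨(Subgroup.eq_top_iff' _).2 fun g => ?_, fun v hv => ?_⟩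
    · obtain ⟨g', hg'K, hg'⟩ := htrans (app C g (basv (k + 1 + 1) 0))
        (by rw [herm_app, herm_basv_self C (by omega)])
      obtain ⟨y, hy⟩ := exists_tail C h1 (g := g'⁻¹ * g) (by rw [app_mul, ← hg', app_inv_app])
      have := K.mul_mem hg'K (htail y)
      rwa [hy, mul_inv_cancel_left] at this
    · obtain ⟨g, -, hg⟩ := htrans v hv
      exact ⟨g, hg⟩

theorem blockSub_eq_top (hq : 3 ≤ C.q) {d : ℕ} (hd : 2 ≤ d) : blockSub C d = ⊤ := by
  obtain ⟨k, rfl⟩ : ∃ k, d = k + 1 := ⟨d - 1, by omega⟩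
  exact (gen_aux C hq k (by omega)).1

/-- Two homomorphisms agreeing on all blocks are equal. -/
theorem hom_ext_blocks (hq : 3 ≤ C.q) {d : ℕ} (hd : 2 ≤ d) {H : Type*} [Group H]
    (f f' : suG C (Fin d) →* H)
    (h : ∀ (i : ℕ) (hi : i + 2 ≤ d) (g : suG C (Fin 2)), f (wext C i hi g) = f' (wext C i hi g)) :
    f = f' := by
  refine MonoidHom.ext fun g => ?_
  have : blockSub C d ≤ MonoidHom.eqLocus f f' := by
    refine iSup₂_le fun i hi => ?_
    rintro _ ⟨y, rfl⟩
    exact h i hi y
  exact this (blockSub_eq_top C hq hd ▸ Subgroup.mem_top g)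

theorem exists_move (hq : 3 ≤ C.q) {d : ℕ} (hd : 2 ≤ d) {v : Fin d → F} (hv : herm C v v = 1) :
    ∃ g : suG C (Fin d), app C g (basv d 0) = v := by
  obtain ⟨k, rfl⟩ : ∃ k, d = k + 1 := ⟨d - 1, by omega⟩
  exact (gen_aux C hq k (by omega)).2 v hv

/-- A unit vector orthogonal to the first basis vector is the image of the second one. -/
theorem exists_frame_one (hq : 3 ≤ C.q) {k : ℕ} (hk : 2 ≤ k) {f : Fin (k + 1) → F}
    (hf : herm C f f = 1) (hf0 : f 0 = 0) :
    ∃ g : suG C (Fin (k + 1)), app C g (basv (k + 1) 0) = basv (k + 1) 0 ∧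
      app C g (basv (k + 1) 1) = f := by
  have h1 : 1 + k ≤ k + 1 := by omega
  have hdec : f = extVec (win (k + 1) 1 k h1) (f ∘ win (k + 1) 1 k h1) := by
    refine eq_extVec h1 f fun i hi => ?_
    rw [show i = 0 from Fin.ext (show (i : ℕ) = 0 by omega), hf0]
  obtain ⟨y, hy⟩ := exists_move C hq (d := k) hk (v := f ∘ win (k + 1) 1 k h1)
    (by rw [← herm_extVec C (win (k + 1) 1 k h1), ← hdec]; exact hf)
  refine ⟨wext C 1 h1 y, wext_basv_out C h1 (Or.inl (by omega)) y, ?_⟩
  rw [show (basv (k + 1) 1 : Fin (k + 1) → F) = basv _ (1 + 0) by rfl, wext_basv C h1 (by omega), hy,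
    ← hdec]

/-- An orthonormal pair orthogonal to the first basis vector. -/
theorem exists_frame_two (hq : 3 ≤ C.q) {k : ℕ} (hk : 3 ≤ k) {f f' : Fin (k + 1) → F}
    (hf : herm C f f = 1) (hf0 : f 0 = 0) (hf' : herm C f' f' = 1) (hf'0 : f' 0 = 0)
    (hff : herm C f' f = 0) :
    ∃ g : suG C (Fin (k + 1)), app C g (basv (k + 1) 0) = basv (k + 1) 0 ∧
      app C g (basv (k + 1) 1) = f ∧ app C g (basv (k + 1) 2) = f' := by
  obtain ⟨g, hg0, hg1⟩ := exists_frame_one C hq (by omega) hf hf0
  obtain ⟨j, rfl⟩ : ∃ j, k = j + 1 := ⟨k - 1, by omega⟩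
  set u := app C g⁻¹ f' with hu
  have c0 : u 0 = 0 := by
    have := herm_basv_right C u (Nat.succ_pos (j + 1))
    rw [hu, herm_app_left, hg0, herm_basv_right C f' (Nat.succ_pos (j + 1))] at this
    exact this.symm.trans hf'0
  have c1 : u ⟨1, by omega⟩ = 0 := by
    have := herm_basv_right C u (i := 1) (by omega)
    rw [hu, herm_app_left, hg1, hff] at this
    exact this.symm
  have h2 : 1 + (j + 1) ≤ j + 1 + 1 := by omega
  set u' := u ∘ win (j + 1 + 1) 1 (j + 1) h2 with hu'
  have hdec : u = extVec (win (j + 1 + 1) 1 (j + 1) h2) u' := by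
    refine eq_extVec h2 u fun i hi => ?_
    rw [show i = 0 from Fin.ext (show (i : ℕ) = 0 by omega), c0]
  obtain ⟨y, hy0, hy1⟩ := exists_frame_one C hq (k := j) (by omega) (f := u')
    (by rw [← herm_extVec C (win (j + 1 + 1) 1 (j + 1) h2), ← hdec, hu, herm_app, hf'])
    (by rw [hu']; exact c1 ▸ congrArg u (Fin.ext rfl))
  refine ⟨g * wext C 1 h2 y, ?_, ?_, ?_⟩
  · rw [app_mul, wext_basv_out C h2 (Or.inl (by omega)), hg0]
  · rw [app_mul, show (basv (j + 1 + 1) 1 : Fin _ → F) = basv _ (1 + 0) by rfl,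
      wext_basv C h2 (by omega), hy0, extVec_basv h2 (by omega)]
    exact hg1
  · rw [app_mul, show (basv (j + 1 + 1) 2 : Fin _ → F) = basv _ (1 + 1) by rfl,
      wext_basv C h2 (by omega), hy1, ← hdec, hu, app_app_inv]

end CfsgLib.Phan
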