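import Cfsg.Agent.Phan.Frames

/-!
# The collinearity graph on unit vectors: triangles and connected neighbourhoods
-/

set_option autoImplicit false
set_option linter.unusedSectionVars false

namespace CfsgLib.Phan

open CfsgLib.RepBounds.Unit Matrix

variable {F : Type*} [Field F] [Fintype F] (C : ConjField F)

section

variable {ι : Type*} [Fintype ι]

/-- Two unit vectors span a non-degenerate plane. -/
def Adj (u v : ι → F) : Prop := nm C (herm C u v) ≠ 1

theorem Adj.symm {u v : ι → F} (h : Adj C u v) : Adj C v u := by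
  unfold Adj at h ⊢
  rwa [← conj_herm, nm_conj]

theorem adj_of_perp {u v : ι → F} (h : herm C u v = 0) : Adj C u v := by
  unfold Adj
  rw [h, nm_zero]
  exact zero_ne_one

theorem herm_perp_comm {u v : ι → F} (h : herm C u v = 0) : herm C v u = 0 := by
  rw [← conj_herm, h, map_zero]

theorem nm_of_unit_smul {u v : ι → F} {a : F} (hu : herm C u u = 1) (hv : herm C v v = 1)
    (h : u = a • v) : nm C a = 1 := by
  rw [h, herm_smul_self, hv, mul_one] at hu
  exact hu

theorem not_adj_of_smul {u v : ι → F} {a : F} (hu : herm C u u = 1) (hv : herm C v v = 1)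
    (h : u = a • v) : ¬ Adj C u v := by
  unfold Adj
  push Not
  have := nm_of_unit_smul C hu hv h
  rwa [h, herm_smul_left, hv, mul_one]

theorem adj_smul_left {u v : ι → F} {a : F} (ha : nm C a = 1) :
    Adj C (a • u) v ↔ Adj C u v := by
  unfold Adj
  rw [herm_smul_left, nm_mul, ha, one_mul]

theorem adj_smul_right {u v : ι → F} {a : F} (ha : nm C a = 1) :
    Adj C u (a • v) ↔ Adj C u v :=
  ⟨fun h => ((adj_smul_left C ha).1 h.symm).symm, fun h => ((adj_smul_left C ha).2 h.symm).symm⟩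

/-- The part of `v` orthogonal to the unit vector `u`. -/
def rem (u v : ι → F) : ι → F := v - herm C v u • u

theorem herm_rem {u : ι → F} (hu : herm C u u = 1) (v : ι → F) : herm C (rem C u v) u = 0 := by
  rw [rem, herm_sub_left, herm_smul_left, hu, mul_one, sub_self]

theorem norm_rem {u : ι → F} (hu : herm C u u = 1) (v : ι → F) :
    herm C (rem C u v) (rem C u v) = herm C v v - nm C (herm C v u) := by
  conv_lhs => rw [rem, herm_sub_right, herm_smul_right]
  rw [show herm C (v - herm C v u • u) u = 0 from herm_rem C hu v, herm_sub_left, herm_smul_left,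
    ← conj_herm C v u, nm]
  ring

theorem norm_rem_two {u f w : ι → F} (hu : herm C u u = 1) (hf : herm C f f = 1)
    (hfu : herm C f u = 0) :
    herm C (rem C f (rem C u w)) (rem C f (rem C u w)) =
      herm C w w - nm C (herm C w u) - nm C (herm C w f) := by
  rw [norm_rem C hf, norm_rem C hu, rem, herm_sub_left, herm_smul_left, herm_perp_comm C hfu,
    mul_zero, sub_zero]

theorem herm_rem_two {u f w : ι → F} (hu : herm C u u = 1) (hf : herm C f f = 1)
    (hfu : herm C f u = 0) :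
    herm C (rem C f (rem C u w)) u = 0 ∧ herm C (rem C f (rem C u w)) f = 0 := by
  refine ⟨?_, herm_rem C hf _⟩
  show herm C (rem C u w - herm C (rem C u w) f • f) u = 0
  rw [herm_sub_left, herm_smul_left, herm_rem C hu, hfu, mul_zero, sub_zero]

theorem exists_unit_smul {z : ι → F} (hz : herm C z z ≠ 0) :
    ∃ a : F, a ≠ 0 ∧ nm C a = herm C z z ∧ herm C (a⁻¹ • z) (a⁻¹ • z) = 1 := by
  obtain ⟨a, ha⟩ := exists_nm_eq C (herm_self_fixed C z)
  refine ⟨a, fun h => hz (by rw [← ha, h, nm_zero]), ha, ?_⟩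
  rw [herm_smul_self, nm_inv, ha, inv_mul_cancel₀ hz]

end

variable {k : ℕ}

/-- Membership in the image of the first three coordinates. -/
def InW (g : suG C (Fin (k + 1))) (z : Fin (k + 1) → F) : Prop :=
  ∀ i : Fin (k + 1), 3 ≤ (i : ℕ) → app C g⁻¹ z i = 0

/-- Three vectors lie in a common non-degenerate three-space. -/
def Good (u v w : Fin (k + 1) → F) : Prop :=
  ∃ g : suG C (Fin (k + 1)), InW C g u ∧ InW C g v ∧ InW C g w

theorem Good.swap {u v w : Fin (k + 1) → F} (h : Good C u v w) : Good C v u w := by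
  obtain ⟨g, a, b, c⟩ := h; exact ⟨g, b, a, c⟩

theorem Good.rot {u v w : Fin (k + 1) → F} (h : Good C u v w) : Good C v w u := by
  obtain ⟨g, a, b, c⟩ := h; exact ⟨g, b, c, a⟩

theorem InW.add {g : suG C (Fin (k + 1))} {y z : Fin (k + 1) → F} (hy : InW C g y) (hz : InW C g z) :
    InW C g (y + z) := fun i hi => by rw [app_add, Pi.add_apply, hy i hi, hz i hi, add_zero]

theorem InW.smul {g : suG C (Fin (k + 1))} {z : Fin (k + 1) → F} (a : F) (hz : InW C g z) :
    InW C g (a • z) := fun i hi => by rw [app_smul, Pi.smul_apply, hz i hi, smul_zero]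

theorem inW_zero' (g : suG C (Fin (k + 1))) : InW C g (0 : Fin (k + 1) → F) := fun i _ => by
  simp [app]

theorem inW_basv (g : suG C (Fin (k + 1))) {i : ℕ} (hi : i < 3) :
    InW C g (app C g (basv (k + 1) i)) := fun j hj => by
  rw [app_inv_app]
  exact if_neg (by omega)

theorem exists_frame_pair (hq : 3 ≤ C.q) (hk : 2 ≤ k) {f₀ f₁ : Fin (k + 1) → F}
    (h₀ : herm C f₀ f₀ = 1) (h₁ : herm C f₁ f₁ = 1) (h₁₀ : herm C f₁ f₀ = 0) :
    ∃ g : suG C (Fin (k + 1)), app C g (basv (k + 1) 0) = f₀ ∧ app C g (basv (k + 1) 1) = f₁ := by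
  obtain ⟨g, hg⟩ := exists_move C hq (d := k + 1) (by omega) h₀
  obtain ⟨y, hy0, hy1⟩ := exists_frame_one C hq hk (f := app C g⁻¹ f₁) (by rw [herm_app]; exact h₁) (by
    have := herm_basv_right C (app C g⁻¹ f₁) (Nat.succ_pos k)
    rw [herm_app_left, hg, h₁₀] at this
    exact this.symm)
  exact ⟨g * y, by rw [app_mul, hy0, hg], by rw [app_mul, hy1, app_app_inv]⟩

theorem exists_frame_triple (hq : 3 ≤ C.q) (hk : 3 ≤ k) {f₀ f₁ f₂ : Fin (k + 1) → F}
    (h₀ : herm C f₀ f₀ = 1) (h₁ : herm C f₁ f₁ = 1) (h₂ : herm C f₂ f₂ = 1)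
    (h₁₀ : herm C f₁ f₀ = 0) (h₂₀ : herm C f₂ f₀ = 0) (h₂₁ : herm C f₂ f₁ = 0) :
    ∃ g : suG C (Fin (k + 1)), app C g (basv (k + 1) 0) = f₀ ∧ app C g (basv (k + 1) 1) = f₁ ∧
      app C g (basv (k + 1) 2) = f₂ := by
  obtain ⟨g, hg⟩ := exists_move C hq (d := k + 1) (by omega) h₀
  have hz : ∀ f, herm C f f₀ = 0 → app C g⁻¹ f 0 = 0 := fun f hf => by
    have := herm_basv_right C (app C g⁻¹ f) (Nat.succ_pos k)
    rw [herm_app_left, hg, hf] at this
    exact this.symm
  obtain ⟨y, hy0, hy1, hy2⟩ := exists_frame_two C hq hk (f := app C g⁻¹ f₁) (f' := app C g⁻¹ f₂)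
    (by rw [herm_app]; exact h₁) (hz _ h₁₀) (by rw [herm_app]; exact h₂) (hz _ h₂₀)
    (by rw [herm_app]; exact h₂₁)
  exact ⟨g * y, by rw [app_mul, hy0, hg], by rw [app_mul, hy1, app_app_inv],
    by rw [app_mul, hy2, app_app_inv]⟩

/-- The criterion for a triangle to be good. -/
theorem good_of_rem (hq : 3 ≤ C.q) (hk : 3 ≤ k) {u f v w : Fin (k + 1) → F}
    (hu : herm C u u = 1) (hf : herm C f f = 1) (hfu : herm C f u = 0)
    (hv : ∃ a b : F, v = a • u + b • f)
    (hz : rem C f (rem C u w) = 0 ∨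
      herm C (rem C f (rem C u w)) (rem C f (rem C u w)) ≠ 0) :
    Good C u v w := by
  set z := rem C f (rem C u w) with hzdef
  have hw : w = herm C w u • u + herm C (rem C u w) f • f + z := by
    rw [hzdef]; unfold rem; abel
  obtain ⟨g, g0, g1, hgz⟩ : ∃ g : suG C (Fin (k + 1)), InW C g u ∧ InW C g f ∧ InW C g z := by
    rcases hz with hz | hz
    · obtain ⟨g, g0, g1⟩ := exists_frame_pair C hq (by omega) hu hf hfu
      refine ⟨g, g0 ▸ inW_basv C g (by omega), g1 ▸ inW_basv C g (by omega), ?_⟩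
      rw [hz]
      exact inW_zero' C g
    · obtain ⟨a, ha, -, hau⟩ := exists_unit_smul C hz
      obtain ⟨hz0, hz1⟩ := herm_rem_two C (w := w) hu hf hfu
      obtain ⟨g, g0, g1, g2⟩ := exists_frame_triple C hq hk hu hf hau hfu
        (by rw [herm_smul_left, hz0, mul_zero]) (by rw [herm_smul_left, hz1, mul_zero])
      refine ⟨g, g0 ▸ inW_basv C g (by omega), g1 ▸ inW_basv C g (by omega), ?_⟩
      rw [← one_smul F z, ← mul_inv_cancel₀ ha, mul_smul, ← g2]
      exact (inW_basv C g (by omega)).smul C a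
  obtain ⟨a, b, rfl⟩ := hv
  refine ⟨g, g0, (g0.smul C a).add C (g1.smul C b), ?_⟩
  rw [hw]
  exact ((g0.smul C _).add C (g1.smul C _)).add C hgz

theorem exists_perp_of_ne (hq : 3 ≤ C.q) (hk : 2 ≤ k) {f₀ f₁ r : Fin (k + 1) → F}
    (h₀ : herm C f₀ f₀ = 1) (h₁ : herm C f₁ f₁ = 1) (h₁₀ : herm C f₁ f₀ = 0)
    (hr0 : herm C r f₀ = 0) (hr1 : herm C r f₁ = 0) (hr : r ≠ 0) :
    ∃ y, herm C r y = 1 ∧ herm C y f₀ = 0 ∧ herm C y f₁ = 0 := by
  obtain ⟨g, g0, g1⟩ := exists_frame_pair C hq hk h₀ h₁ h₁₀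
  set r' := app C g⁻¹ r with hr'
  obtain ⟨i, hi⟩ : ∃ i, r' i ≠ 0 := Function.ne_iff.1 fun h => hr (by
    have := app_app_inv C g r
    rw [← hr', h] at this
    rw [← this]
    exact Matrix.mulVec_zero _)
  have c0 : r' ⟨0, by omega⟩ = 0 := by
    rw [← herm_basv_right C r' (i := 0) (by omega), hr', herm_app_left, g0, hr0]
  have c1 : r' ⟨1, by omega⟩ = 0 := by
    rw [← herm_basv_right C r' (i := 1) (by omega), hr', herm_app_left, g1, hr1]
  have i0 : (i : ℕ) ≠ 0 := fun h => hi ((congrArg r' (Fin.ext h)).trans c0)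
  have i1 : (i : ℕ) ≠ 1 := fun h => hi ((congrArg r' (Fin.ext h)).trans c1)
  refine ⟨app C g (C.σ (r' i)⁻¹ • basv (k + 1) i), ?_, ?_, ?_⟩
  · rw [← herm_app_left, ← hr', herm_smul_right, C.invol, herm_basv_right C _ i.isLt,
      inv_mul_cancel₀ hi]
  · rw [← g0, herm_app, herm_smul_left, herm_basv_ne C (by omega) i0, mul_zero]
  · rw [← g1, herm_app, herm_smul_left, herm_basv_ne C (by omega) i1, mul_zero]

theorem exists_partner (hq : 3 ≤ C.q) (hk : 2 ≤ k) {f₀ f₁ r : Fin (k + 1) → F}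
    (h₀ : herm C f₀ f₀ = 1) (h₁ : herm C f₁ f₁ = 1) (h₁₀ : herm C f₁ f₀ = 0)
    (hr0 : herm C r f₀ = 0) (hr1 : herm C r f₁ = 0) (hr : r ≠ 0) (hrr : herm C r r = 0) :
    ∃ s, herm C r s = 1 ∧ herm C s s = 0 ∧ herm C s f₀ = 0 ∧ herm C s f₁ = 0 := by
  obtain ⟨y, hy, hy0, hy1⟩ := exists_perp_of_ne C hq hk h₀ h₁ h₁₀ hr0 hr1 hr
  obtain ⟨c, hc⟩ := exists_isotropic C hrr hy
  refine ⟨y + c • r, ?_, hc, ?_, ?_⟩
  · rw [herm_add_right, herm_smul_right, hrr, hy, mul_zero, add_zero]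
  · rw [herm_add_left, herm_smul_left, hy0, hr0, mul_zero, add_zero]
  · rw [herm_add_left, herm_smul_left, hy1, hr1, mul_zero, add_zero]

/-- A triangle either is good or has a centre making three good triangles, given a suitable scalar. -/
theorem triangle_step (hq : 3 ≤ C.q) (hk : 3 ≤ k) {u v w : Fin (k + 1) → F}
    (hu : herm C u u = 1) (hv : herm C v v = 1) (hw : herm C w w = 1) (huv : Adj C u v)
    {z : F} (hzf : C.σ z = z) (hz0 : z ≠ 0) (hz1 : z ≠ 1)
    (hzA : (1 - nm C (herm C w u)) * z ≠ 1) (hzB : (1 - nm C (herm C w v)) * z ≠ 1) :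
    Good C u v w ∨ ∃ x, herm C x x = 1 ∧ Adj C u x ∧ Adj C v x ∧ Adj C w x ∧
      Good C u v x ∧ Good C u x w ∧ Good C x v w := by
  have hv' : herm C (rem C u v) (rem C u v) ≠ 0 := by
    rw [norm_rem C hu, hv]
    exact sub_ne_zero.2 (Ne.symm (Adj.symm C huv))
  obtain ⟨b, hb, -, hf⟩ := exists_unit_smul C hv'
  set f := b⁻¹ • rem C u v with hfdef
  have hfu : herm C f u = 0 := by rw [hfdef, herm_smul_left, herm_rem C hu, mul_zero]
  have hvdec : v = herm C v u • u + b • f := by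
    rw [hfdef, smul_smul, mul_inv_cancel₀ hb, one_smul, rem]; abel
  set r := rem C f (rem C u w) with hrdef
  by_cases hr : r = 0 ∨ herm C r r ≠ 0
  · exact Or.inl (good_of_rem C hq hk hu hf hfu ⟨_, _, hvdec⟩ hr)
  push Not at hr
  obtain ⟨hrne, hrr⟩ := hr
  have hru : herm C r u = 0 := (herm_rem_two C (w := w) hu hf hfu).1
  have hrf : herm C r f = 0 := (herm_rem_two C (w := w) hu hf hfu).2
  obtain ⟨s, hrs, hss, hsu, hsf⟩ : ∃ s, herm C r s = 1 ∧ herm C s s = 0 ∧ herm C s u = 0 ∧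
      herm C s f = 0 := exists_partner C hq (by omega) hu hf hfu hru hrf hrne hrr
  have hsr : herm C s r = 1 := by rw [← conj_herm, hrs, map_one]
  obtain ⟨t', ht'⟩ := exists_tr_eq C hzf
  have ht0 : t' ≠ 0 := fun h => hz0 (by rw [← ht', h, map_zero, add_zero])
  have hσt0 : C.σ t' ≠ 0 := (map_ne_zero C.σ).2 ht0
  set x₀ := r + t'⁻¹ • s with hx₀
  have hx₀n : herm C x₀ x₀ = z / nm C t' := by
    simp only [hx₀, herm_add_left, herm_add_right, herm_smul_left, herm_smul_right, hrr, hss, hrs,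
      hsr, map_inv₀, nm]
    rw [← ht']
    field_simp
    ring
  obtain ⟨a, ha, hna, hx⟩ := exists_unit_smul C (z := x₀) (by
    rw [hx₀n]; exact div_ne_zero hz0 (fun h => ht0 ((nm_eq_zero C).1 h)))
  set x := a⁻¹ • x₀ with hxdef
  have hxu : herm C x u = 0 := by
    rw [hxdef, hx₀, herm_smul_left, herm_add_left, herm_smul_left, hru, hsu]; ring
  have hxf : herm C x f = 0 := by
    rw [hxdef, hx₀, herm_smul_left, herm_add_left, herm_smul_left, hrf, hsf]; ring
  have hxv : herm C x v = 0 := by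
    rw [hvdec, herm_add_right, herm_smul_right, herm_smul_right, hxu, hxf]; ring
  have hwdec : w = herm C w u • u + herm C (rem C u w) f • f + r := by
    rw [hrdef]; unfold rem; abel
  have hwx : nm C (herm C w x) = z⁻¹ := by
    have e0 : herm C r x = C.σ (a⁻¹) * C.σ (t'⁻¹) := by
      rw [hxdef, herm_smul_right, hx₀, herm_add_right, herm_smul_right, hrr, hrs]
      ring
    have e : herm C w x = C.σ (a⁻¹) * C.σ (t'⁻¹) := by
      rw [hwdec, herm_add_left, herm_add_left, herm_smul_left, herm_smul_left, herm_perp_comm C hxu,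
        herm_perp_comm C hxf, e0]
      ring
    rw [e, nm_mul, nm_conj, nm_conj, nm_inv, nm_inv, hna, hx₀n]
    have : nm C t' ≠ 0 := fun h => ht0 ((nm_eq_zero C).1 h)
    field_simp
  have key : ∀ A : F, (1 - A) * z ≠ 1 → 1 - A - z⁻¹ ≠ 0 := fun A hA h => hA (by
    rw [sub_eq_zero] at h
    rw [h, inv_mul_cancel₀ hz0])
  refine Or.inr ⟨x, hx, adj_of_perp C (herm_perp_comm C hxu), adj_of_perp C (herm_perp_comm C hxv),
    ?_, ?_, ?_, ?_⟩
  · unfold Adj
    rw [hwx]
    simpa using hz1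
  · have hxx : rem C f (rem C u x) = x := by
      simp [rem, hxu, hxf]
    refine good_of_rem C hq hk hu hf hfu ⟨_, _, hvdec⟩ (Or.inr ?_)
    rw [hxx, hx]
    exact one_ne_zero
  · refine good_of_rem C hq hk hu hx hxu ⟨0, 1, by simp⟩ (Or.inr ?_)
    rw [norm_rem_two C hu hx hxu, hw, hwx]
    exact key _ hzA
  · refine good_of_rem C hq hk hx hv (herm_perp_comm C hxv) ⟨0, 1, by simp⟩ (Or.inr ?_)
    rw [norm_rem_two C hx hv (herm_perp_comm C hxv), hw, hwx, sub_right_comm]
    exact key _ hzB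

theorem exists_scalar [DecidableEq F] {A B : F} (hA : A ≠ 1) (hB : B ≠ 1) (hq : 4 ≤ C.q)
    (h : A = 0 ∨ B = 0 ∨ A = B ∨ 5 ≤ C.q) :
    ∃ z, C.σ z = z ∧ z ≠ 0 ∧ z ≠ 1 ∧ (1 - A) * z ≠ 1 ∧ (1 - B) * z ≠ 1 := by
  obtain ⟨z, hz, hzS⟩ := exists_fixed_not_mem C {0, 1, (1 - A)⁻¹, (1 - B)⁻¹} (by
    rcases h with h | h | h | h
    · rw [h, sub_zero, inv_one]
      refine lt_of_le_of_lt (Finset.card_le_card (t := ({0, 1, (1 - B)⁻¹} : Finset F))
        (by intro; simp)) (lt_of_le_of_lt Finset.card_le_three (by omega))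
    · rw [h, sub_zero, inv_one]
      refine lt_of_le_of_lt (Finset.card_le_card (t := ({0, 1, (1 - A)⁻¹} : Finset F))
        (by intro; simp; tauto)) (lt_of_le_of_lt Finset.card_le_three (by omega))
    · rw [h]
      refine lt_of_le_of_lt (Finset.card_le_card (t := ({0, 1, (1 - B)⁻¹} : Finset F))
        (by intro; simp)) (lt_of_le_of_lt Finset.card_le_three (by omega))
    · exact lt_of_le_of_lt Finset.card_le_four (by omega))
  simp only [Finset.mem_insert, Finset.mem_singleton, not_or] at hzS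
  obtain ⟨h0, h1, h2, h3⟩ := hzS
  exact ⟨z, hz, h0, h1, fun e => h2 (eq_inv_of_mul_eq_one_right e),
    fun e => h3 (eq_inv_of_mul_eq_one_right e)⟩

/-- Every triangle of the graph decomposes into good triangles. -/
theorem triangle (hq : 4 ≤ C.q) (hk : 3 ≤ k) {u v w : Fin (k + 1) → F}
    (hu : herm C u u = 1) (hv : herm C v v = 1) (hw : herm C w w = 1) (huv : Adj C u v)
    (huw : Adj C u w) (hvw : Adj C v w) :
    Good C u v w ∨ ∃ x, herm C x x = 1 ∧ Adj C u x ∧ Adj C v x ∧ Adj C w x ∧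
      Good C u v x ∧ Good C u x w ∧ Good C x v w := by
  classical
  set A := nm C (herm C w u) with hA
  set B := nm C (herm C w v) with hB
  set D := nm C (herm C u v) with hD
  have hA1 : A ≠ 1 := Adj.symm C huw
  have hB1 : B ≠ 1 := Adj.symm C hvw
  have hD1 : D ≠ 1 := huv
  have hAf : C.σ A = A := nm_fixed C _
  have hBf : C.σ B = B := nm_fixed C _
  have hDf : C.σ D = D := nm_fixed C _
  have e1 : nm C (herm C v u) = D := by rw [← conj_herm, nm_conj]
  have e2 : nm C (herm C v w) = B := by rw [← conj_herm, nm_conj]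
  have e3 : nm C (herm C u w) = A := by rw [← conj_herm, nm_conj]
  by_cases h1 : A = 0 ∨ B = 0 ∨ A = B ∨ 5 ≤ C.q
  · obtain ⟨z, a, b, c, d, e⟩ := exists_scalar C hA1 hB1 hq h1
    exact triangle_step C (by omega) hk hu hv hw huv a b c d e
  by_cases h2 : D = 0 ∨ A = 0 ∨ D = A ∨ 5 ≤ C.q
  · obtain ⟨z, a, b, c, d, e⟩ := exists_scalar C hD1 hA1 hq h2
    rcases triangle_step C (by omega) hk hv hw hu hvw a b c (by rw [← hD]; exact d)
      (by rw [e3]; exact e) with h | ⟨x, hx, x1, x2, x3, g1, g2, g3⟩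
    · exact Or.inl h.rot.rot
    · exact Or.inr ⟨x, hx, x3, x1, x2, g2.rot.rot, g3.rot.rot, g1.rot.rot⟩
  by_cases h3 : B = 0 ∨ D = 0 ∨ B = D ∨ 5 ≤ C.q
  · obtain ⟨z, a, b, c, d, e⟩ := exists_scalar C hB1 hD1 hq h3
    rcases triangle_step C (by omega) hk hw hu hv huw.symm a b c (by rw [e2]; exact d)
      (by rw [e1]; exact e) with h | ⟨x, hx, x1, x2, x3, g1, g2, g3⟩
    · exact Or.inl h.rot
    · exact Or.inr ⟨x, hx, x2, x3, x1, g3.rot, g1.rot, g2.rot⟩
  exfalso
  simp only [not_or] at h1 h2 h3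
  have hsub : ({0, 1, A, B, D} : Finset F) ⊆ Finset.univ.filter fun x => C.σ x = x := by
    intro x hx
    simp only [Finset.mem_insert, Finset.mem_singleton] at hx
    rw [Finset.mem_filter]
    rcases hx with rfl | rfl | rfl | rfl | rfl <;> simp [hAf, hBf, hDf]
  have hcard := Finset.card_le_card hsub
  rw [card_fixed C, Finset.card_insert_of_notMem (by simp [Ne.symm h1.1, Ne.symm h1.2.1, Ne.symm h2.1]),
    Finset.card_insert_of_notMem (by simp [Ne.symm hA1, Ne.symm hB1, Ne.symm hD1]),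
    Finset.card_insert_of_notMem (by simp [h1.2.2.1, Ne.symm h2.2.2.1]),
    Finset.card_insert_of_notMem (by simp [h3.2.2.1]), Finset.card_singleton] at hcard
  omega

end CfsgLib.Phan
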