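import Cfsg.Agent.Phan.Nbhd

/-!
# The graph of a compatible family of maps: stabiliser and edges
-/

set_option autoImplicit false
set_option linter.unusedSectionVars false

namespace CfsgLib.Phan

open CfsgLib.RepBounds.Unit Matrix

variable {F : Type*} [Field F] [Fintype F] (C : ConjField F)

theorem commute_ext {ι ι' κ : Type*} [Fintype ι] [DecidableEq ι] [Fintype ι'] [DecidableEq ι']
    [Fintype κ] [DecidableEq κ] (e : ι ↪ κ) (e' : ι' ↪ κ) (hdis : ∀ i j, e i ≠ e' j)
    (g : suG C ι) (g' : suG C ι') : Commute (ext C e g) (ext C e' g') := by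
  refine suG_ext C fun x => funext fun l => ?_
  rw [app_mul, app_mul]
  by_cases h1 : l ∈ Set.range e
  · obtain ⟨i, rfl⟩ := h1
    have hn : ∀ i, e i ∉ Set.range e' := fun i ⟨j, hj⟩ => hdis i j hj.symm
    rw [app_ext_mem, app_ext_not_mem C e' g' _ (hn i), app_ext_mem]
    rw [show app C (ext C e' g') x ∘ e = x ∘ e from funext fun i' => app_ext_not_mem C e' g' _ (hn i')]
  · by_cases h2 : l ∈ Set.range e'
    · obtain ⟨j, rfl⟩ := h2
      have hn : ∀ j, e' j ∉ Set.range e := fun j ⟨i, hi⟩ => hdis i j hi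
      rw [app_ext_not_mem C e g _ (hn j), app_ext_mem, app_ext_mem]
      rw [show app C (ext C e g) x ∘ e' = x ∘ e' from funext fun j' => app_ext_not_mem C e g _ (hn j')]
    · rw [app_ext_not_mem C e g _ h1, app_ext_not_mem C e' g' _ h2, app_ext_not_mem C e' g' _ h2,
        app_ext_not_mem C e g _ h1]

theorem commute_wext {d m m' i j : ℕ} (h : i + m ≤ d) (h' : j + m' ≤ d) (hd : i + m ≤ j)
    (g : suG C (Fin m)) (g' : suG C (Fin m')) : Commute (wext C i h g) (wext C j h' g') :=
  commute_ext C _ _ (fun a b e => by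
    have := congrArg (fun x : Fin d => (x : ℕ)) e
    simp only [win_apply] at this
    omega) g g'

theorem suTwo_mul_torus {a b : F} (ha : nm C a + nm C 0 = 1) (hb : nm C b + nm C 0 = 1)
    (hab : nm C (a * b) + nm C 0 = 1) :
    suTwo C a 0 ha * suTwo C b 0 hb = suTwo C (a * b) 0 hab := by
  refine suG_ext C fun x => ?_
  rw [app_mul, app_suTwo, app_suTwo, app_suTwo]
  funext i
  fin_cases i <;> simp <;> ring

theorem suTwo_one_torus (h : nm C 1 + nm C 0 = 1) : suTwo C 1 0 h = 1 := by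
  refine suG_ext C fun x => ?_
  rw [app_suTwo, app_one]
  funext i
  fin_cases i <;> simp

/-- An element of `SU_2` is determined by its first column. -/
theorem eq_suTwo (g : suG C (Fin 2)) :
    ∃ h : nm C (app C g (basv 2 0) 0) + nm C (app C g (basv 2 0) 1) = 1,
      g = suTwo C (app C g (basv 2 0) 0) (app C g (basv 2 0) 1) h := by
  have h : nm C (app C g (basv 2 0) 0) + nm C (app C g (basv 2 0) 1) = 1 := by
    have := herm_app C g (basv 2 0) (basv 2 0)
    rw [herm_basv_self C (by omega)] at this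
    rw [← this]
    simp [herm, Fin.sum_univ_two, nm]
  refine ⟨h, ?_⟩
  obtain ⟨y, hy⟩ := exists_tail C (k := 1) (by omega) (g := (suTwo C _ _ h)⁻¹ * g) (by
    rw [app_mul]
    conv_rhs => rw [← app_inv_app C (suTwo C _ _ h) (basv 2 0), app_suTwo_zero]
    congr 1
    funext i
    fin_cases i <;> rfl)
  rw [eq_one_of_subsingleton C y, map_one] at hy
  exact (inv_mul_eq_one.1 hy.symm).symm

variable {G : Type*} [Group G] {k : ℕ}

/-- The data for one inductive step. -/
structure StepData (C : ConjField F) (G : Type*) [Group G] (k : ℕ) where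
  /-- the map on the tail -/
  h : suG C (Fin k) →* G
  /-- the map on the first three coordinates -/
  ψ : suG C (Fin 3) →* G
  hk : 3 ≤ k
  move : ∀ {d : ℕ}, 2 ≤ d → ∀ {v : Fin d → F}, herm C v v = 1 →
    ∃ g : suG C (Fin d), app C g (basv d 0) = v
  agree : ∀ g, h (wext C 0 (Nat.le_trans (by omega : 0 + 2 ≤ 3) hk) g) =
    ψ (wext C 1 (by omega : 1 + 2 ≤ 3) g)
  comm : ∀ (g : suG C (Fin 2)) (y : suG C (Fin (k - 1))),
    Commute (ψ (wext C 0 (by omega : 0 + 2 ≤ 3) g)) (h (wext C 1 (by omega : 1 + (k - 1) ≤ k) y))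
  norm : ∀ (a : F) (ha : nm C a + nm C 0 = 1) (y : suG C (Fin k)), ∃ y' : suG C (Fin k),
    (ψ (wext C 0 (by omega : 0 + 2 ≤ 3) (suTwo C a 0 ha)))⁻¹ * h y *
        ψ (wext C 0 (by omega : 0 + 2 ≤ 3) (suTwo C a 0 ha)) = h y' ∧
      (wext C 0 (by omega : 0 + 2 ≤ k + 1) (suTwo C a 0 ha))⁻¹ * wext C 1 (by omega : 1 + k ≤ k + 1) y *
        wext C 0 (by omega : 0 + 2 ≤ k + 1) (suTwo C a 0 ha) = wext C 1 (by omega : 1 + k ≤ k + 1) y'

namespace StepData

variable {C} (S : StepData C G k)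

theorem le_tail : 1 + k ≤ k + 1 := by omega

theorem le_two (S : StepData C G k) : 0 + 2 ≤ k + 1 := by have := S.hk; omega

theorem le_three (S : StepData C G k) : 0 + 3 ≤ k + 1 := by have := S.hk; omega

/-- The graph on the tail. -/
noncomputable def tl : suG C (Fin k) →* G × suG C (Fin (k + 1)) :=
  S.h.prod (wext C 1 le_tail)

/-- The graph on the first three coordinates. -/
noncomputable def k3 : suG C (Fin 3) →* G × suG C (Fin (k + 1)) :=
  S.ψ.prod (wext C 0 S.le_three)

/-- The graph on the first block. -/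
noncomputable def up : suG C (Fin 2) →* G × suG C (Fin (k + 1)) :=
  S.k3.comp (wext C 0 (by omega : 0 + 2 ≤ 3))

theorem up_snd (g : suG C (Fin 2)) : (S.up g).2 = wext C 0 S.le_two g := by
  show wext C 0 S.le_three (wext C 0 _ g) = _
  rw [wext_wext]

theorem k3_low (g : suG C (Fin 2)) :
    S.k3 (wext C 1 (by omega : 1 + 2 ≤ 3) g) =
      S.tl (wext C 0 (Nat.le_trans (by omega : 0 + 2 ≤ 3) S.hk) g) := by
  refine Prod.ext (S.agree g).symm ?_
  show wext C 0 S.le_three (wext C 1 _ g) = wext C 1 le_tail (wext C 0 _ g)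
  rw [wext_wext, wext_wext]

/-- The graph on the tail of the tail commutes with the first block. -/
theorem commute_up (g : suG C (Fin 2)) (y : suG C (Fin (k - 1))) :
    Commute (S.up g) (S.tl (wext C 1 (by have := S.hk; omega) y)) := by
  refine Prod.ext (S.comm g y) ?_
  show (S.up g).2 * wext C 1 le_tail _ = wext C 1 le_tail _ * (S.up g).2
  rw [S.up_snd, wext_wext]
  exact commute_wext C _ _ (by omega) _ _

/-- Conjugation by the torus maps the tail into itself. -/
theorem conj_tl {a : F} (ha : nm C a + nm C 0 = 1) (y : suG C (Fin k)) :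
    ∃ y', (S.up (suTwo C a 0 ha))⁻¹ * S.tl y * S.up (suTwo C a 0 ha) = S.tl y' := by
  obtain ⟨y', h1, h2⟩ := S.norm a ha y
  refine ⟨y', Prod.ext h1 ?_⟩
  show (S.up (suTwo C a 0 ha)).2⁻¹ * wext C 1 le_tail y * (S.up (suTwo C a 0 ha)).2 = wext C 1 le_tail y'
  rw [S.up_snd]
  exact h2

/-- The graph of the stabiliser of the base point. -/
noncomputable def stab : Subgroup (G × suG C (Fin (k + 1))) where
  carrier := {p | ∃ (a : F) (ha : nm C a + nm C 0 = 1) (y : suG C (Fin k)),
    p = S.up (suTwo C a 0 ha) * S.tl y}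
  one_mem' := ⟨1, by rw [nm_one, nm_zero, add_zero], 1, by
    rw [suTwo_one_torus, map_one, map_one, one_mul]⟩
  mul_mem' := by
    rintro _ _ ⟨a, ha, y, rfl⟩ ⟨b, hb, z, rfl⟩
    obtain ⟨y', hy'⟩ := S.conj_tl hb y
    have hab : nm C (a * b) + nm C 0 = 1 := by
      rw [nm_zero, add_zero] at ha hb ⊢
      rw [nm_mul, ha, hb, one_mul]
    refine ⟨a * b, hab, y' * z, ?_⟩
    rw [← suTwo_mul_torus C ha hb hab, map_mul, map_mul, ← hy']
    group
  inv_mem' := by
    rintro _ ⟨a, ha, y, rfl⟩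
    have ha' : nm C a = 1 := by simpa [nm_zero] using ha
    have hb : nm C (C.σ a) + nm C 0 = 1 := by rw [nm_conj]; exact ha
    have h1 : suTwo C a 0 ha * suTwo C (C.σ a) 0 hb = 1 := by
      rw [suTwo_mul_torus C ha hb (by rw [show a * C.σ a = nm C a from rfl, ha', nm_one, nm_zero,
        add_zero]), suTwo_congr C _ (by rw [nm_one, nm_zero, add_zero]) (show a * C.σ a = 1 from ha') rfl,
        suTwo_one_torus]
    obtain ⟨y', hy'⟩ := S.conj_tl hb y
    refine ⟨C.σ a, hb, y'⁻¹, ?_⟩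
    have h2 : S.up (suTwo C a 0 ha) = (S.up (suTwo C (C.σ a) 0 hb))⁻¹ := by
      rw [eq_inv_iff_mul_eq_one, ← map_mul, h1, map_one]
    rw [map_inv, ← hy', h2]
    group

theorem mem_stab {p : G × suG C (Fin (k + 1))} : p ∈ S.stab ↔
    ∃ (a : F) (ha : nm C a + nm C 0 = 1) (y : suG C (Fin k)),
      p = S.up (suTwo C a 0 ha) * S.tl y := Iff.rfl

theorem tl_mem (y : suG C (Fin k)) : S.tl y ∈ S.stab :=
  ⟨1, by rw [nm_one, nm_zero, add_zero], y, by rw [suTwo_one_torus, map_one, one_mul]⟩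

theorem torus_mem {a : F} (ha : nm C a + nm C 0 = 1) : S.up (suTwo C a 0 ha) ∈ S.stab :=
  ⟨a, ha, 1, by rw [map_one, mul_one]⟩

/-- The base vector. -/
noncomputable def e₀ (_S : StepData C G k) : Fin (k + 1) → F := basv (k + 1) 0

/-- The point of an element. -/
noncomputable def pv (p : G × suG C (Fin (k + 1))) : Fin (k + 1) → F := app C p.2 S.e₀

theorem herm_pv (p : G × suG C (Fin (k + 1))) : herm C (S.pv p) (S.pv p) = 1 := by
  rw [pv, herm_app, e₀, herm_basv_self C (by omega)]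

theorem pv_mul (p q : G × suG C (Fin (k + 1))) : S.pv (p * q) = app C p.2 (S.pv q) := app_mul C _ _ _

theorem pv_one : S.pv 1 = S.e₀ := app_one C _

theorem pv_up (g : suG C (Fin 2)) :
    S.pv (S.up g) = app C g (basv 2 0) 0 • basv (k + 1) 0 + app C g (basv 2 0) 1 • basv (k + 1) 1 := by
  rw [pv, e₀, S.up_snd, show (basv (k + 1) 0 : Fin (k + 1) → F) = basv _ (0 + 0) from rfl,
    wext_basv C _ (by omega)]
  funext l
  by_cases hl : l ∈ Set.range (win (k + 1) 0 2 S.le_two)
  · obtain ⟨j, rfl⟩ := hl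
    rw [extVec_mem]
    fin_cases j <;> simp [basv, win_apply]
  · rw [extVec_not_mem _ _ hl]
    rw [mem_range_win] at hl
    simp [basv, show ¬ (l : ℕ) = 0 by omega, show ¬ (l : ℕ) = 1 by omega]

theorem pv_tl (y : suG C (Fin k)) : S.pv (S.tl y) = S.e₀ :=
  wext_basv_out C _ (Or.inl (by omega)) y

theorem pv_stab {p : G × suG C (Fin (k + 1))} (hp : p ∈ S.stab) :
    ∃ a : F, S.pv p = a • S.e₀ := by
  obtain ⟨a, ha, y, rfl⟩ := hp
  refine ⟨a, ?_⟩
  rw [pv_mul, pv_tl]
  show S.pv (S.up _) = _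
  rw [S.pv_up, app_suTwo_zero]
  simp [e₀]

theorem eq_one_of_stab {p : G × suG C (Fin (k + 1))} (hp : p ∈ S.stab) (h2 : p.2 = 1) : p = 1 := by
  obtain ⟨a, ha, y, rfl⟩ := hp
  have h := congrArg (fun g => app C g S.e₀) h2
  rw [app_one] at h
  have h' : S.pv (S.up (suTwo C a 0 ha) * S.tl y) = S.e₀ := h
  rw [pv_mul, pv_tl] at h'
  change S.pv (S.up _) = _ at h'
  rw [S.pv_up, app_suTwo_zero] at h'
  have ha1 : a = 1 := by
    have := congrFun h' 0
    simpa [e₀, basv] using this
  subst ha1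
  rw [suTwo_one_torus, map_one, one_mul] at h2 ⊢
  rw [ext_injective C _ (h2.trans (map_one _).symm) , map_one]

/-- An element moving the base vector to a multiple of itself is covered by the stabiliser. -/
theorem exists_stab {g : suG C (Fin (k + 1))} {a : F} (hg : app C g S.e₀ = a • S.e₀) :
    ∃ p ∈ S.stab, p.2 = g := by
  have he : herm C S.e₀ S.e₀ = 1 := herm_basv_self C (by omega)
  have ha : nm C a + nm C 0 = 1 := by
    rw [nm_zero, add_zero]
    exact nm_of_unit_smul C (by rw [herm_app]; exact he) he hg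
  set t := S.up (suTwo C a 0 ha) with ht
  have htpv : app C t.2 S.e₀ = a • S.e₀ := by
    show S.pv _ = _
    rw [ht, S.pv_up, app_suTwo_zero]
    simp [e₀]
  obtain ⟨y, hy⟩ := exists_tail C (k := k) (by omega) (g := t.2⁻¹ * g) (by
    rw [app_mul]
    show app C _ (app C g S.e₀) = _
    rw [hg, ← htpv, app_inv_app]
    rfl)
  exact ⟨t * S.tl y, ⟨a, ha, y, rfl⟩, by show t.2 * wext C 1 _ y = g; rw [hy, mul_inv_cancel_left]⟩

end StepData

/-- The data from a map on the tail and a map of `SU_3`, commuting on distant blocks. -/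
def StepData.ofBlocks {C : ConjField F} (hq : 3 ≤ C.q) (h : suG C (Fin k) →* G)
    (ψ : suG C (Fin 3) →* G) (hk : 3 ≤ k)
    (agree : ∀ g, h (wext C 0 (Nat.le_trans (by omega : 0 + 2 ≤ 3) hk) g) =
      ψ (wext C 1 (by omega : 1 + 2 ≤ 3) g))
    (comm : ∀ (j : ℕ) (hj : j + 2 ≤ k), 1 ≤ j → ∀ g g',
      Commute (ψ (wext C 0 (by omega : 0 + 2 ≤ 3) g)) (h (wext C j hj g'))) : StepData C G k where
  h := h
  ψ := ψ
  hk := hk
  move hd _ hv := exists_move C hq hd hv
  agree := agree
  comm g y := by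
    have hh : (MulAut.conj (ψ (wext C 0 (by omega : 0 + 2 ≤ 3) g))).toMonoidHom.comp
        (h.comp (wext C 1 (by omega))) = h.comp (wext C 1 (by omega : 1 + (k - 1) ≤ k)) := by
      refine hom_ext_blocks C hq (by omega) _ _ fun i hi g' => ?_
      show _ * h _ * _⁻¹ = h _
      rw [mul_inv_eq_iff_eq_mul, wext_wext]
      exact comm _ _ (by omega) g g'
    exact mul_inv_eq_iff_eq_mul.1 (DFunLike.congr_fun hh y)
  norm a ha y := by
    have h1k : 1 + k ≤ k + 1 := by omega
    have h02 : 0 + 2 ≤ k + 1 := by omega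
    set tG := ψ (wext C 0 (by omega : 0 + 2 ≤ 3) (suTwo C a 0 ha)) with htG
    set tS := wext C 0 h02 (suTwo C a 0 ha) with htS
    let tl : suG C (Fin k) →* G × suG C (Fin (k + 1)) := h.prod (wext C 1 h1k)
    let M : Subgroup (suG C (Fin k)) :=
      (tl.range.map (MulAut.conj ((tG, tS) : G × suG C (Fin (k + 1)))).toMonoidHom).comap tl
    suffices hM : M = ⊤ by
      obtain ⟨z, ⟨y', rfl⟩, hy'⟩ : ∃ z ∈ tl.range,
          (MulAut.conj ((tG, tS) : G × suG C (Fin (k + 1)))).toMonoidHom z = tl y :=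
        Subgroup.mem_map.1 (Subgroup.mem_comap.1 (hM ▸ Subgroup.mem_top y : y ∈ M))
      have e1 : tG * h y' * tG⁻¹ = h y := congrArg Prod.fst hy'
      have e2 : tS * wext C 1 h1k y' * tS⁻¹ = wext C 1 h1k y := congrArg Prod.snd hy'
      exact ⟨y', by rw [← e1]; group, by rw [← e2]; group⟩
    rw [eq_top_iff, ← blockSub_eq_top C hq (by omega : 2 ≤ k)]
    refine iSup₂_le fun i hi => ?_
    rintro _ ⟨g, rfl⟩
    refine Subgroup.mem_comap.2 (Subgroup.mem_map.2 ?_)
    have hk3 : 0 + 3 ≤ k + 1 := by omega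
    rcases Nat.eq_zero_or_pos i with rfl | hi0
    · set t' : suG C (Fin 3) := wext C 0 (by omega : 0 + 2 ≤ 3) (suTwo C a 0 ha) with ht'
      have e : app C t' (basv 3 0) = a • basv 3 0 := by
        rw [ht', show (basv 3 0 : Fin 3 → F) = basv 3 (0 + 0) from rfl, wext_basv C _ (by omega),
          app_suTwo_zero]
        funext l
        fin_cases l
        · exact (extVec_mem _ _ 0).trans (by simp [basv])
        · exact (extVec_mem _ _ 1).trans (by simp [basv])
        · rw [extVec_not_mem _ _ (by rw [mem_range_win]; simp)]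
          simp [basv]
      obtain ⟨g', hg'⟩ := exists_tail C (k := 2) (by omega)
        (g := t'⁻¹ * wext C 1 (by omega : 1 + 2 ≤ 3) g * t') (by
          rw [app_mul, app_mul, e, app_smul, wext_basv_out C _ (Or.inl (by omega)), ← e, app_inv_app])
      have e' : t' * wext C 1 (by omega : 1 + 2 ≤ 3) g' * t'⁻¹ = wext C 1 (by omega : 1 + 2 ≤ 3) g := by
        rw [hg']; group
      refine ⟨_, ⟨wext C 0 (by omega) g', rfl⟩, Prod.ext ?_ ?_⟩
      · show tG * h _ * tG⁻¹ = h _
        rw [agree g', agree g, htG, ← map_inv, ← map_mul, ← map_mul, e']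
      · show tS * wext C 1 h1k _ * tS⁻¹ = wext C 1 h1k _
        have e'' := congrArg (wext C 0 hk3) e'
        rw [map_mul, map_mul, map_inv, ht', wext_wext, wext_wext, wext_wext] at e''
        rw [wext_wext, wext_wext, htS]
        exact e''
    · refine ⟨_, ⟨wext C i hi g, rfl⟩, Prod.ext ?_ ?_⟩
      · show tG * h _ * tG⁻¹ = h _
        rw [mul_inv_eq_iff_eq_mul]
        exact comm i hi hi0 _ g
      · show tS * wext C 1 h1k _ * tS⁻¹ = wext C 1 h1k _
        rw [mul_inv_eq_iff_eq_mul, wext_wext]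
        exact commute_wext C _ _ (by omega) _ _

end CfsgLib.Phan
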