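import Cfsg.Agent.Phan.Geometry

/-!
# Common neighbours of two non-adjacent points
-/

set_option autoImplicit false
set_option linter.unusedSectionVars false

namespace CfsgLib.Phan

open CfsgLib.RepBounds.Unit Matrix

variable {F : Type*} [Field F] [Fintype F] (C : ConjField F) {k : ℕ}

/-- A non-adjacent point written as the base point plus an isotropic vector. -/
theorem exists_radical {o u : Fin (k + 1) → F} (ho : herm C o o = 1) (hu : herm C u u = 1)
    (hnadj : ¬ Adj C o u) (hne : ∀ a : F, u ≠ a • o) :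
    ∃ (a : F) (r : Fin (k + 1) → F), nm C a = 1 ∧ u = a • (o + r) ∧ r ≠ 0 ∧ herm C r o = 0 ∧
      herm C r r = 0 := by
  unfold Adj at hnadj
  push Not at hnadj
  have hb : nm C (herm C u o) = 1 := by rw [← conj_herm, nm_conj]; exact hnadj
  set a := herm C u o with ha
  have ha0 : a ≠ 0 := fun h => by rw [h, nm_zero] at hb; exact zero_ne_one hb
  refine ⟨a, a⁻¹ • rem C o u, hb, ?_, ?_, ?_, ?_⟩
  · rw [smul_add, smul_smul, mul_inv_cancel₀ ha0, one_smul, rem, ← ha, add_sub_cancel]
  · intro h
    rcases smul_eq_zero.1 h with h | h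
    · exact ha0 (inv_eq_zero.1 h)
    · exact hne a (by rw [rem, sub_eq_zero, ← ha] at h; exact h)
  · rw [herm_smul_left, herm_rem C ho, mul_zero]
  · rw [herm_smul_self, norm_rem C ho, hu, ← ha, hb, sub_self, mul_zero]

theorem exists_member (hq : 3 ≤ C.q) (hk : 3 ≤ k) {o r : Fin (k + 1) → F} (ho : herm C o o = 1)
    (hro : herm C r o = 0) (hr : r ≠ 0) (hrr : herm C r r = 0) :
    ∃ x, herm C x x = 1 ∧ herm C x o = 0 ∧ herm C x r = 0 := by
  obtain ⟨g, hg⟩ := exists_move C hq (d := k + 1) (by omega) ho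
  set r' := app C g⁻¹ r with hr'
  obtain ⟨i, hi⟩ : ∃ i, r' i ≠ 0 := Function.ne_iff.1 fun h => hr (by
    have := app_app_inv C g r
    rw [← hr', h] at this
    rw [← this]
    exact Matrix.mulVec_zero _)
  have c0 : r' ⟨0, by omega⟩ = 0 := by
    rw [← herm_basv_right C r' (i := 0) (by omega), hr', herm_app_left, hg, hro]
  have i0 : (i : ℕ) ≠ 0 := fun h => hi ((congrArg r' (Fin.ext h)).trans c0)
  set y := app C g (C.σ (r' i)⁻¹ • basv (k + 1) i) with hy
  have hry : herm C r y = 1 := by
    rw [hy, ← herm_app_left, ← hr', herm_smul_right, C.invol, herm_basv_right C _ i.isLt,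
      inv_mul_cancel₀ hi]
  have hyo : herm C y o = 0 := by
    rw [hy, ← hg, herm_app, herm_smul_left, herm_basv_ne C (by omega) i0, mul_zero]
  obtain ⟨c, hc⟩ := exists_isotropic C hrr hry
  set s := y + c • r with hs
  have hrs : herm C r s = 1 := by
    rw [hs, herm_add_right, herm_smul_right, hrr, hry, mul_zero, add_zero]
  have hso : herm C s o = 0 := by
    rw [hs, herm_add_left, herm_smul_left, hyo, hro, mul_zero, add_zero]
  obtain ⟨t, ht⟩ := exists_tr_eq C (c := (1 : F)) (map_one C.σ)
  have ht0 : t ≠ 0 := fun h => by rw [h, map_zero, add_zero] at ht; exact zero_ne_one ht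
  set f := r + t • s with hf
  have hff : herm C f f = 1 := by
    simp only [hf, herm_add_left, herm_add_right, herm_smul_left, herm_smul_right, hrr, hc, hrs,
      show herm C s r = 1 by rw [← conj_herm, hrs, map_one]]
    linear_combination ht
  have hfo : herm C f o = 0 := by
    rw [hf, herm_add_left, herm_smul_left, hro, hso, mul_zero, add_zero]
  have hrf : herm C r f = C.σ t := by
    rw [hf, herm_add_right, herm_smul_right, hrr, hrs, mul_one, zero_add]
  have hz : herm C (rem C f r) (rem C f r) ≠ 0 := by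
    rw [norm_rem C hff, hrr, hrf, nm_conj, zero_sub]
    exact neg_ne_zero.2 fun h => ht0 ((nm_eq_zero C).1 h)
  obtain ⟨b, hb, -, hfb⟩ := exists_unit_smul C hz
  obtain ⟨g', g0, g1, g2⟩ := exists_frame_triple C hq hk ho hff hfb hfo
    (by rw [herm_smul_left, rem, herm_sub_left, herm_smul_left, hro, hfo]; ring)
    (by rw [herm_smul_left, herm_rem C hff, mul_zero])
  refine ⟨app C g' (basv (k + 1) 3), by rw [herm_app, herm_basv_self C (by omega)], ?_, ?_⟩
  · rw [← g0, herm_app, herm_basv_ne C (by omega) (by omega)]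
  · have hdec : r = b • (b⁻¹ • rem C f r) + herm C r f • f := by
      rw [smul_smul, mul_inv_cancel₀ hb, one_smul, rem, sub_add_cancel]
    rw [hdec, herm_add_right, herm_smul_right, ← g2, ← g1, herm_app, herm_basv_ne C (by omega) (by omega),
      herm_smul_right, herm_app, herm_basv_ne C (by omega) (by omega)]
    ring

/-- A common neighbour of the base point and two adjacent points not adjacent to it. -/
theorem exists_common (hq : 3 ≤ C.q) (hk : 3 ≤ k) {o u w : Fin (k + 1) → F} (ho : herm C o o = 1)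
    (hu : herm C u u = 1) (hw : herm C w w = 1) (hou : ¬ Adj C o u) (hune : ∀ a : F, u ≠ a • o)
    (how : ¬ Adj C o w) (hwne : ∀ a : F, w ≠ a • o) (huw : Adj C u w) :
    ∃ x, herm C x x = 1 ∧ Adj C o x ∧ Adj C u x ∧ Adj C w x := by
  obtain ⟨a, r, ha, rfl, hr, hro, hrr⟩ := exists_radical C ho hu hou hune
  obtain ⟨a', r', ha', rfl, hr', hro', hrr'⟩ := exists_radical C ho hw how hwne
  rw [adj_smul_left C ha, adj_smul_right C ha'] at huw
  have hrr2 : herm C r r' ≠ 0 := by
    intro h
    refine huw ?_
    rw [herm_add_left, herm_add_right, herm_add_right, ho, herm_perp_comm C hro', hro, h]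
    simp [nm_one]
  obtain ⟨x0, hx0, hx0o, hx0r⟩ := exists_member C hq hk ho hro hr hrr
  set c := -herm C x0 r' / herm C r r' with hc
  set x := x0 + c • r with hx
  have hxo : herm C x o = 0 := by
    rw [hx, herm_add_left, herm_smul_left, hx0o, hro, mul_zero, add_zero]
  have hxr : herm C x r = 0 := by
    rw [hx, herm_add_left, herm_smul_left, hx0r, hrr, mul_zero, add_zero]
  have hxr' : herm C x r' = 0 := by
    rw [hx, herm_add_left, herm_smul_left, hc, div_mul_cancel₀ _ hrr2, add_neg_cancel]
  have hxx : herm C x x = 1 := by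
    conv_lhs => rw [hx, herm_add_right, herm_smul_right, hxr, herm_add_left, herm_smul_left]
    rw [herm_perp_comm C hx0r, hx0]
    ring
  refine ⟨x, hxx, adj_of_perp C (herm_perp_comm C hxo), ?_, ?_⟩
  · rw [adj_smul_left C ha]
    exact adj_of_perp C (herm_perp_comm C (by rw [herm_add_right, hxo, hxr, add_zero]))
  · rw [adj_smul_left C ha']
    exact adj_of_perp C (herm_perp_comm C (by rw [herm_add_right, hxo, hxr', add_zero]))

/-- With three fixed elements a norm `-1` element is a sum of two elements of norm one. -/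
theorem exists_nm_split [DecidableEq F] (hq : C.q = 3) (c : F) :
    ∃ c₁ : F, (nm C c₁ = 0 ∨ nm C c₁ = 1) ∧ (nm C (c - c₁) = 0 ∨ nm C (c - c₁) = 1) := by
  by_cases h01 : nm C c = 0 ∨ nm C c = 1
  · exact ⟨c, h01, Or.inl (by rw [sub_self, nm_zero])⟩
  push Not at h01
  have h2 : (2 : F) ≠ 0 := by
    intro h
    obtain ⟨p, hchar⟩ := CharP.exists F
    haveI : Fact p.Prime := ⟨CharP.char_is_prime F p⟩
    have h1 : p ∣ 2 := (CharP.cast_eq_zero_iff F p 2).1 (by exact_mod_cast h)
    have h9 : p ∣ 9 := (CharP.cast_eq_zero_iff F p 9).1 (by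
      rw [show 9 = Fintype.card F by rw [C.card, hq]; rfl]; exact Nat.cast_card_eq_zero F)
    have := Nat.dvd_gcd h1 h9
    norm_num at this
    exact (Fact.out : p.Prime).ne_one this
  have hfix : ({0, 1, -1} : Finset F) = Finset.univ.filter fun x => C.σ x = x := by
    refine Finset.eq_of_subset_of_card_le (fun y hy => ?_) ?_
    · simp only [Finset.mem_insert, Finset.mem_singleton] at hy
      rw [Finset.mem_filter]
      rcases hy with rfl | rfl | rfl <;> simp
    · rw [card_fixed C, hq, Finset.card_insert_of_notMem (by simp), Finset.card_pair]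
      intro e
      exact h2 (by linear_combination e)
  have hcases : ∀ w : F, C.σ w = w → w = 0 ∨ w = 1 ∨ w = -1 := fun w hw => by
    have : w ∈ ({0, 1, -1} : Finset F) := by rw [hfix]; simpa using hw
    simpa using this
  have h3 : (3 : F) = 0 := by
    rcases hcases 2 (map_ofNat C.σ 2) with h | h | h
    · exact absurd h h2
    · exact absurd (by linear_combination h : (1 : F) = 0) one_ne_zero
    · linear_combination h
  have hN : nm C c = -1 := ((hcases _ (nm_fixed C c)).resolve_left h01.1).resolve_left h01.2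
  set t := c + C.σ c with ht
  have ht2 : t * t = 1 := by
    rcases hcases t (by rw [ht, map_add, C.invol, add_comm]) with h | h | h
    · exfalso
      have hσ : C.σ c = -c := by linear_combination (-(ht)) + h
      have hcc : c * c = 1 := by
        rw [nm, hσ] at hN; linear_combination -hN
      rcases mul_self_eq_one_iff.1 hcc with e | e <;> rw [e] at hσ <;> simp at hσ <;>
        first
          | exact h2 (by linear_combination hσ)
          | exact h2 (by linear_combination -hσ)
    · rw [h, one_mul]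
    · rw [h, neg_one_mul, neg_neg]
  refine ⟨-t, Or.inr ?_, Or.inr ?_⟩
  · rw [nm_neg, nm, ht, map_add, C.invol, add_comm (C.σ c), ← ht, ht2]
  · rw [sub_neg_eq_add, nm, map_add, ht, map_add, C.invol]
    have ht2' : (c + C.σ c) * (c + C.σ c) = 1 := by rw [← ht]; exact ht2
    simp only [nm] at hN
    linear_combination hN + 2 * ht2' + 2 * (0 : F) * h3

/-- The common neighbourhood of two non-adjacent points is non-empty and connected. -/
theorem nbhd_connected (hq : 3 ≤ C.q) (hk : 3 ≤ k) {o u : Fin (k + 1) → F} (ho : herm C o o = 1)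
    (hu : herm C u u = 1) (hou : ¬ Adj C o u) (hune : ∀ a : F, u ≠ a • o) :
    (∃ x, herm C x x = 1 ∧ Adj C o x ∧ Adj C u x) ∧
    ∀ P : (Fin (k + 1) → F) → Prop,
      (∀ b c, herm C b b = 1 → Adj C o b → Adj C u b → herm C c c = 1 → Adj C o c → Adj C u c →
        Adj C b c → P b → P c) →
      ∀ b c, herm C b b = 1 → Adj C o b → Adj C u b → herm C c c = 1 → Adj C o c → Adj C u c →
        P b → P c := by
  classical
  obtain ⟨a, r, ha, rfl, hr, hro, hrr⟩ := exists_radical C ho hu hou hune
  have hadj : ∀ x, Adj C (a • (o + r)) x ↔ nm C (herm C x o + herm C x r) ≠ 1 := fun x => by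
    rw [adj_smul_left C ha]
    exact ⟨fun h => by simpa [Adj, herm_add_right] using h.symm,
      fun h => (show Adj C x (o + r) by simpa [Adj, herm_add_right] using h).symm⟩
  have hmem : ∀ x, herm C x o = 0 → herm C x r = 0 → Adj C o x ∧ Adj C (a • (o + r)) x :=
    fun x h1 h2 => ⟨adj_of_perp C (herm_perp_comm C h1),
      (hadj x).2 (by rw [h1, h2, add_zero, nm_zero]; exact zero_ne_one)⟩
  obtain ⟨x₀, hx₀, hx₀o, hx₀r⟩ := exists_member C (by omega) hk ho hro hr hrr
  refine ⟨⟨x₀, hx₀, hmem _ hx₀o hx₀r⟩, fun P hP b c hb hob hub hc hoc huc hPb => ?_⟩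
  -- every common neighbour is equal or adjacent to a member
  have hnear : ∀ b, herm C b b = 1 → Adj C o b → Adj C (a • (o + r)) b →
      ∃ x, herm C x x = 1 ∧ herm C x o = 0 ∧ herm C x r = 0 ∧ (x = b ∨ Adj C b x) := by
    intro b hb hob hub
    by_cases hbr : herm C b r = 0
    · set β := herm C b o with hβ
      by_cases hβ0 : β = 0
      · exact ⟨b, hb, hβ0, hbr, Or.inl rfl⟩
      have hn : herm C (rem C o b) (rem C o b) ≠ 0 := by
        rw [norm_rem C ho, hb]
        exact sub_ne_zero.2 (Ne.symm (Adj.symm C hob))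
      obtain ⟨e, he, hne, hxu⟩ := exists_unit_smul C hn
      refine ⟨e⁻¹ • rem C o b, hxu, by rw [herm_smul_left, herm_rem C ho, mul_zero], ?_, Or.inr ?_⟩
      · rw [herm_smul_left, rem, herm_sub_left, herm_smul_left, hbr, herm_perp_comm C hro]; ring
      · unfold Adj
        have : herm C b (rem C o b) = 1 - nm C β := by
          rw [rem, ← hβ, herm_sub_right, herm_smul_right, hb, ← hβ, nm]; ring
        rw [norm_rem C ho, hb, ← hβ] at hne hn
        rw [herm_smul_right, nm_mul, this, nm_conj, nm_inv, hne]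
        have hf : C.σ (1 - nm C β) = 1 - nm C β := by rw [map_sub, map_one, nm_fixed]
        rw [show nm C (1 - nm C β) = (1 - nm C β) * (1 - nm C β) from congrArg ((1 - nm C β) * ·) hf,
          ← mul_assoc, inv_mul_cancel₀ hn, one_mul, Ne, sub_eq_self]
        exact fun h => hβ0 ((nm_eq_zero C).1 h)
    · set e := -C.σ (herm C b x₀ / herm C b r) with he
      refine ⟨x₀ + e • r, ?_, ?_, ?_, Or.inr (adj_of_perp C ?_)⟩
      · simp only [herm_add_left, herm_add_right, herm_smul_left, herm_smul_right, hx₀, hx₀r,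
          herm_perp_comm C hx₀r, hrr]
        ring
      · rw [herm_add_left, herm_smul_left, hx₀o, hro, mul_zero, add_zero]
      · rw [herm_add_left, herm_smul_left, hx₀r, hrr, mul_zero, add_zero]
      · rw [herm_add_right, herm_smul_right, he, map_neg, C.invol, neg_mul, div_mul_cancel₀ _ hbr,
          add_neg_cancel]
  -- two members are joined through a common neighbour
  have hstep : ∀ x x', herm C x x = 1 → herm C x o = 0 → herm C x r = 0 → herm C x' x' = 1 →
      herm C x' o = 0 → herm C x' r = 0 → ∀ s, herm C r s = 1 → herm C s s = 0 → herm C s o = 0 →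
      herm C s x = 0 → (4 ≤ C.q ∨ nm C (herm C s x') = 0 ∨ nm C (herm C s x') = 1) →
      P x → P x' := by
    intro x x' hx hxo hxr hx' hxo' hxr' s hrs hss hso hsx hX hPx
    obtain ⟨γ, hγ0, hγ⟩ : ∃ γ : F, γ ≠ 0 ∧ nm C γ ∉ ({1, (nm C (herm C s x'))⁻¹} : Finset F) := by
      rcases hX with h | h
      · exact exists_nm_not_mem C _
          (by have := Finset.card_le_two (a := (1 : F)) (b := (nm C (herm C s x'))⁻¹); omega)
      · obtain ⟨z, hz, hzS⟩ := exists_fixed_not_mem C {0, 1}
          (lt_of_le_of_lt Finset.card_le_two (by omega))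
        simp only [Finset.mem_insert, Finset.mem_singleton, not_or] at hzS
        obtain ⟨γ, rfl⟩ := exists_nm_eq C hz
        refine ⟨γ, fun e => hzS.1 (by rw [e, nm_zero]), ?_⟩
        simp only [Finset.mem_insert, Finset.mem_singleton, not_or]
        refine ⟨hzS.2, ?_⟩
        rcases h with h | h <;> rw [h] <;> simp [hzS]
    simp only [Finset.mem_insert, Finset.mem_singleton, not_or] at hγ
    obtain ⟨e, he⟩ := exists_unit_of_pair C hrr hss hrs hγ0
    set y := γ • s + e • r with hy
    have hyo : herm C y o = 0 := by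
      rw [hy, herm_add_left, herm_smul_left, herm_smul_left, hso, hro]; ring
    have hyr : herm C y r = γ := by
      rw [hy, herm_add_left, herm_smul_left, herm_smul_left, hrr,
        show herm C s r = 1 by rw [← conj_herm, hrs, map_one]]; ring
    have hyu : Adj C (a • (o + r)) y := (hadj y).2 (by rw [hyo, hyr, zero_add]; exact hγ.1)
    have hyo' : Adj C o y := adj_of_perp C (herm_perp_comm C hyo)
    have hyx : Adj C x y := adj_of_perp C (herm_perp_comm C (by
      rw [hy, herm_add_left, herm_smul_left, herm_smul_left, hsx, herm_perp_comm C hxr]; ring))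
    have hyx' : Adj C y x' := by
      unfold Adj
      rw [hy, herm_add_left, herm_smul_left, herm_smul_left, herm_perp_comm C hxr', mul_zero, add_zero,
        nm_mul]
      intro h
      exact hγ.2 (eq_inv_of_mul_eq_one_left h)
    exact hP y x' he hyo' hyu hx' (hmem _ hxo' hxr').1 (hmem _ hxo' hxr').2 hyx'
      (hP x y hx (hmem _ hxo hxr).1 (hmem _ hxo hxr).2 he hyo' hyu hyx hPx)
  -- a member moved along the radical
  have hshift : ∀ x (c : F), herm C x x = 1 → herm C x o = 0 → herm C x r = 0 →
      herm C (x + c • r) (x + c • r) = 1 ∧ herm C (x + c • r) o = 0 ∧ herm C (x + c • r) r = 0 := by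
    intro x c hx hxo hxr
    refine ⟨?_, ?_, ?_⟩
    · simp only [herm_add_left, herm_add_right, herm_smul_left, herm_smul_right, hx, hxr,
        herm_perp_comm C hxr, hrr]
      ring
    · rw [herm_add_left, herm_smul_left, hxo, hro, mul_zero, add_zero]
    · rw [herm_add_left, herm_smul_left, hxr, hrr, mul_zero, add_zero]
  have hrad : ∀ x (c : F), herm C x x = 1 → herm C x o = 0 → herm C x r = 0 →
      (nm C c = 0 ∨ nm C c = 1) → P x → P (x + c • r) := by
    intro x c hx hxo hxr hc hPx
    obtain ⟨s, hrs, hss, hso, hsx⟩ := exists_partner C hq (by omega) ho hx hxo hro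
      (herm_perp_comm C hxr) hr hrr
    obtain ⟨h1, h2, h3⟩ := hshift x c hx hxo hxr
    refine hstep x _ hx hxo hxr h1 h2 h3 s hrs hss hso hsx (Or.inr ?_) hPx
    rwa [herm_add_right, hsx, herm_smul_right, show herm C s r = 1 by rw [← conj_herm, hrs, map_one],
      mul_one, zero_add, nm_conj]
  have hmm : ∀ x x', herm C x x = 1 → herm C x o = 0 → herm C x r = 0 → herm C x' x' = 1 →
      herm C x' o = 0 → herm C x' r = 0 → P x → P x' := by
    intro x x' hx hxo hxr hx' hxo' hxr' hPx
    obtain ⟨s, hrs, hss, hso, hsx⟩ := exists_partner C hq (by omega) ho hx hxo hro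
      (herm_perp_comm C hxr) hr hrr
    rcases Nat.lt_or_ge C.q 4 with hq3 | hq4
    swap
    · exact hstep x x' hx hxo hxr hx' hxo' hxr' s hrs hss hso hsx (Or.inl hq4) hPx
    set c := C.σ (-herm C s x') with hc
    obtain ⟨h1, h2, h3⟩ := hshift x' c hx' hxo' hxr'
    have hP'' : P (x' + c • r) := hstep x _ hx hxo hxr h1 h2 h3 s hrs hss hso hsx (Or.inr (Or.inl (by
      rw [herm_add_right, herm_smul_right, show herm C s r = 1 by rw [← conj_herm, hrs, map_one],
        mul_one, hc, C.invol, add_neg_cancel, nm_zero]))) hPx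
    obtain ⟨c₁, hc₁, hc₂⟩ := exists_nm_split C (by omega) (-c)
    obtain ⟨k1, k2, k3⟩ := hshift (x' + c • r) c₁ h1 h2 h3
    have := hrad _ _ k1 k2 k3 hc₂ (hrad _ _ h1 h2 h3 hc₁ hP'')
    rwa [add_assoc, ← add_smul, add_sub_cancel, add_assoc, ← add_smul, add_neg_cancel, zero_smul,
      add_zero] at this
  obtain ⟨x, hx, hxo, hxr, hbx⟩ := hnear b hb hob hub
  obtain ⟨x', hx', hxo', hxr', hcx'⟩ := hnear c hc hoc huc
  have hPx : P x := by
    rcases hbx with rfl | hbx
    · exact hPb
    · exact hP b x hb hob hub hx (hmem _ hxo hxr).1 (hmem _ hxo hxr).2 hbx hPb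
  have hPx' := hmm x x' hx hxo hxr hx' hxo' hxr' hPx
  rcases hcx' with rfl | hcx'
  · exact hPx'
  · exact hP x' c hx' (hmem _ hxo' hxr').1 (hmem _ hxo' hxr').2 hc hoc huc hcx'.symm hPx'

end CfsgLib.Phan
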