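import Cfsg.Agent.Phan.Geometry

/-!
# Isotropic vectors in three variables
-/

set_option autoImplicit false
set_option linter.unusedSectionVars false

namespace CfsgLib.Phan

open CfsgLib.RepBounds.Unit Matrix

variable {F : Type*} [Field F] [Fintype F] (C : ConjField F)

theorem exists_herm_right {ι : Type*} [Fintype ι] [DecidableEq ι] {u : ι → F} (hu : u ≠ 0) :
    ∃ y, herm C u y = 1 := by
  obtain ⟨y, hy⟩ := exists_herm_eq C hu 1
  exact ⟨y, by rw [← conj_herm, hy, map_one]⟩

/-- Orthogonal isotropic vectors in three variables are proportional. -/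
theorem isotropic_prop {u w : Fin 3 → F} (hu0 : u ≠ 0) (hu : herm C u u = 0) (hw : herm C w w = 0)
    (h : herm C w u = 0) : ∃ c : F, w = c • u := by
  classical
  obtain ⟨y, hy⟩ := exists_herm_right C hu0
  have hyu : herm C y u = 1 := by rw [← conj_herm, hy, map_one]
  refine ⟨herm C w y, ?_⟩
  by_contra hne
  set w' := w - herm C w y • u with hw'
  have hw'0 : w' ≠ 0 := sub_ne_zero.2 hne
  have h1 : herm C w' u = 0 := by rw [hw', herm_sub_left, herm_smul_left, h, hu]; ring
  have h2 : herm C w' y = 0 := by rw [hw', herm_sub_left, herm_smul_left, hy]; ring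
  have h1' : herm C u w' = 0 := herm_perp_comm C h1
  have h2' : herm C y w' = 0 := herm_perp_comm C h2
  have h3 : herm C w' w' = 0 := by
    simp only [hw', herm_sub_left, herm_sub_right, herm_smul_left, herm_smul_right, hw, h, hu,
      show herm C u w = 0 from herm_perp_comm C h]
    ring
  obtain ⟨z, hz⟩ := exists_herm_eq C hw'0 1
  let T : (Fin 4 → F) →+ (Fin 3 → F) :=
    { toFun := fun a => a 0 • u + a 1 • y + a 2 • w' + a 3 • z
      map_zero' := by simp
      map_add' := fun a b => by simp only [Pi.add_apply, add_smul]; abel }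
  have hT : Function.Injective T := by
    refine (injective_iff_map_eq_zero T).2 fun a ha => ?_
    have e : ∀ x, herm C (T a) x = a 0 * herm C u x + a 1 * herm C y x + a 2 * herm C w' x +
        a 3 * herm C z x := fun x => by
      show herm C (a 0 • u + a 1 • y + a 2 • w' + a 3 • z) x = _
      simp only [herm_add_left, herm_smul_left]
    simp only [ha, herm_zero_left] at e
    have a3 : a 3 = 0 := by
      have := e w'
      rw [h1', h2', h3, hz] at this
      linear_combination -this
    have a1 : a 1 = 0 := by
      have := e u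
      rw [hu, hyu, h1, a3] at this
      linear_combination -this
    have a0 : a 0 = 0 := by
      have := e y
      rw [hy, h2, a1, a3] at this
      linear_combination -this
    have a2 : a 2 = 0 := by
      have := e z
      rw [a0, a1, a3, show herm C w' z = 1 by rw [← conj_herm, hz, map_one]] at this
      linear_combination -this
    funext i
    fin_cases i <;> assumption
  have := Fintype.card_le_of_injective T hT
  rw [Fintype.card_fun, Fintype.card_fun, Fintype.card_fin, Fintype.card_fin] at this
  have h1F := Fintype.one_lt_card (α := F)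
  exact absurd ((Nat.pow_le_pow_iff_right h1F).1 this) (by omega)

theorem exists_unit_perp_pair {v w : Fin 3 → F} (hv : herm C v v = 0) (hw : herm C w w = 0)
    (hvw : herm C v w ≠ 0) : ∃ e, herm C e e = 1 ∧ herm C e v = 0 ∧ herm C e w = 0 := by
  classical
  have hwv : herm C w v ≠ 0 := fun h => hvw (herm_perp_comm C h)
  let E : (Fin 3 → F) → (Fin 3 → F) := fun y =>
    y - (herm C y w / herm C v w) • v - (herm C y v / herm C w v) • w
  obtain ⟨y, hy⟩ : ∃ y, E y ≠ 0 := by
    by_contra! hall
    let T : (Fin 2 → F) → (Fin 3 → F) := fun a => a 0 • v + a 1 • w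
    have hT : Function.Surjective T := fun y =>
      ⟨![herm C y w / herm C v w, herm C y v / herm C w v], by
        have := hall y
        simp only [E] at this
        show ![_, _] 0 • v + ![_, _] 1 • w = y
        simp only [Matrix.cons_val_zero, Matrix.cons_val_one]
        linear_combination (norm := module) (-1 : F) • this⟩
    have := Fintype.card_le_of_surjective T hT
    rw [Fintype.card_fun, Fintype.card_fun, Fintype.card_fin, Fintype.card_fin] at this
    exact absurd ((Nat.pow_le_pow_iff_right (Fintype.one_lt_card (α := F))).1 this) (by omega)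
  have e1 : herm C (E y) v = 0 := by
    simp only [E, herm_sub_left, herm_smul_left, hv]
    field_simp
    ring
  have e2 : herm C (E y) w = 0 := by
    simp only [E, herm_sub_left, herm_smul_left, hw]
    field_simp
    ring
  have hne : herm C (E y) (E y) ≠ 0 := by
    intro h0
    obtain ⟨c, hc⟩ := isotropic_prop C (fun hv0 => hvw (by rw [hv0, herm_zero_left])) hv h0 e1
    rw [hc, herm_smul_left] at e2
    rcases mul_eq_zero.1 e2 with h | h
    · exact hy (by rw [hc, h, zero_smul])
    · exact hvw h
  obtain ⟨a, -, -, ha⟩ := exists_unit_smul C hne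
  exact ⟨_, ha, by rw [herm_smul_left, e1, mul_zero], by rw [herm_smul_left, e2, mul_zero]⟩

theorem exists_unit_perp_one {v : Fin 3 → F} (hv : herm C v v = 0) :
    ∃ e, herm C e e = 1 ∧ herm C e v = 0 := by
  by_cases hv0 : v = 0
  · exact ⟨basv 3 0, herm_basv_self C (by omega), by rw [hv0, herm_zero_right]⟩
  obtain ⟨y, hy⟩ := exists_herm_right C hv0
  obtain ⟨c, hc⟩ := exists_isotropic C hv hy
  obtain ⟨e, he, he1, -⟩ := exists_unit_perp_pair C hv hc (by
    rw [herm_add_right, herm_smul_right, hv, hy, mul_zero, add_zero]; exact one_ne_zero)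
  exact ⟨e, he, he1⟩

/-- Two isotropic vectors have a common orthogonal unit vector. -/
theorem exists_unit_perp {v w : Fin 3 → F} (hv : herm C v v = 0) (hw : herm C w w = 0) :
    ∃ e, herm C e e = 1 ∧ herm C e v = 0 ∧ herm C e w = 0 := by
  by_cases hvw : herm C v w = 0
  · by_cases hv0 : v = 0
    · obtain ⟨e, he, he1⟩ := exists_unit_perp_one C hw
      exact ⟨e, he, by rw [hv0, herm_zero_right], he1⟩
    obtain ⟨c, rfl⟩ := isotropic_prop C hv0 hv hw (herm_perp_comm C hvw)
    obtain ⟨e, he, he1⟩ := exists_unit_perp_one C hv
    exact ⟨e, he, he1, by rw [herm_smul_right, he1, mul_zero]⟩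
  · exact exists_unit_perp_pair C hv hw hvw

end CfsgLib.Phan
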