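import Cfsg.Agent.Phan.FixedVector

/-!
# Two copies of `SU_2` with commuting maximal tori form a pair in `SU_3`
-/

set_option autoImplicit false
set_option linter.unusedSectionVars false

namespace CfsgLib.Phan

open CfsgLib.RepBounds.Unit Matrix

variable {F : Type*} [Field F] [Fintype F] (C : ConjField F)

theorem eq_smul_of_perp_two {g : suG C (Fin 3)} {x : Fin 3 → F}
    (h0 : herm C x (app C g (basv 3 0)) = 0) (h1 : herm C x (app C g (basv 3 1)) = 0) :
    ∃ c : F, x = c • app C g (basv 3 2) := by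
  set y := app C g⁻¹ x with hy
  have e0 : y 0 = 0 := by
    have := herm_basv_right C y (i := 0) (by omega : 0 < 3)
    rw [hy, herm_app_left, h0] at this
    exact this.symm
  have e1 : y 1 = 0 := by
    have := herm_basv_right C y (i := 1) (by omega : 1 < 3)
    rw [hy, herm_app_left, h1] at this
    exact this.symm
  refine ⟨y 2, ?_⟩
  rw [← app_app_inv C g x, ← hy, ← app_smul]
  congr 1
  funext i
  fin_cases i
  · simpa [basv] using e0
  · simpa [basv] using e1
  · simp [basv]

/-- The image of a copy of `SU_2` is a point stabiliser. -/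
theorem exists_stab_range (hq : 3 ≤ C.q) {α : suG C (Fin 2) →* suG C (Fin 3)}
    (hα : Function.Injective α) :
    ∃ e, herm C e e = 1 ∧ ∀ x, x ∈ α.range ↔ app C x e = e := by
  obtain ⟨e, he, hfix⟩ := exists_fixed_unit C hq hα
  obtain ⟨g, hg⟩ := exists_move C hq (d := 3) (by omega) he
  set j := (MulAut.conj g).toMonoidHom.comp (loB C) with hj
  have hjmem : ∀ x, x ∈ j.range ↔ app C x e = e := by
    intro x
    constructor
    · rintro ⟨y, rfl⟩
      show app C (g * loB C y * g⁻¹) e = e
      rw [app_mul, app_mul, ← hg, app_inv_app, loB_fix]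
    · intro hx
      obtain ⟨y, hy⟩ := exists_loB C (g := g⁻¹ * x * g) (by
        rw [app_mul, app_mul, hg, hx, ← hg, app_inv_app])
      refine ⟨y, ?_⟩
      show g * loB C y * g⁻¹ = x
      rw [hy]
      group
  refine ⟨e, he, fun x => ?_⟩
  have hle : α.range ≤ j.range := by
    rintro _ ⟨y, rfl⟩
    exact (hjmem _).2 (hfix y)
  have heq : α.range = j.range := by
    refine Subgroup.eq_of_le_of_card_ge hle ?_
    rw [← Nat.card_congr (MonoidHom.ofInjective hα).toEquiv]
    exact le_of_eq (Nat.card_congr (MonoidHom.ofInjective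
      ((MulAut.conj g).injective.comp (loB_injective C) : Function.Injective j)).toEquiv).symm
  rw [heq]
  exact hjmem x

theorem char_le (p : ℕ) [Fact p.Prime] [CharP F p] : p ≤ C.q := by
  have h : ((C.q ^ 2 : ℕ) : F) = 0 := by rw [← C.card]; exact Nat.cast_card_eq_zero F
  have h1 := (Fact.out : p.Prime).dvd_of_dvd_pow ((CharP.cast_eq_zero_iff F p _).1 h)
  exact Nat.le_of_dvd (by have := C.two_le; omega) h1

/-- An element of order `q + 1` of `SU_2` fixes no non-zero vector. -/
theorem eq_zero_of_fixed {y : suG C (Fin 2)} (hy : orderOf y = C.q + 1) {u : Fin 2 → F}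
    (hu : app C y u = u) : u = 0 := by
  obtain ⟨p, hchar⟩ := CharP.exists F
  haveI : Fact p.Prime := ⟨CharP.char_is_prime F p⟩
  haveI : CharP (Matrix (Fin 2) (Fin 2) F) p :=
    charP_of_injective_algebraMap (algebraMap F (Matrix (Fin 2) (Fin 2) F)).injective p
  by_contra hu0
  set M := y.1.1 with hM
  have hdet : (M - 1).det = 0 := Matrix.exists_mulVec_eq_zero_iff.1 ⟨u, hu0, by
    rw [Matrix.sub_mulVec, Matrix.one_mulVec, sub_eq_zero]; exact hu⟩
  have hd1 : M 0 0 * M 1 1 - M 0 1 * M 1 0 = 1 := by rw [← Matrix.det_fin_two]; exact y.1.2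
  have htr : M 0 0 + M 1 1 = 2 := by
    rw [Matrix.det_fin_two] at hdet
    simp at hdet
    linear_combination hd1 - hdet
  have hsq : (M - 1) ^ 2 = 0 := by
    ext i j
    fin_cases i <;> fin_cases j <;> simp [pow_two, Matrix.mul_apply, Fin.sum_univ_two]
    · linear_combination (M 0 0) * htr - hd1
    · linear_combination (M 0 1) * htr
    · linear_combination (M 1 0) * htr
    · linear_combination (M 1 1) * htr - hd1
  have hp : M ^ p = 1 := by
    have := pow_eq_zero_of_le (Fact.out : p.Prime).two_le hsq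
    rwa [sub_pow_char_of_commute p (Commute.one_right M), one_pow, sub_eq_zero] at this
  have hyp : y ^ p = 1 := by
    apply Subtype.ext
    apply Subtype.ext
    show (y.1 ^ p).1 = 1
    rw [← hp, hM]
    exact map_pow SpecialLinearGroup.coeMonoidHom y.1 p
  have h1 := Nat.le_of_dvd (Fact.out : p.Prime).pos (orderOf_dvd_of_pow_eq_one hyp)
  have h2 := char_le C p
  omega

/-- An element of order `q + 1` of a point stabiliser fixes only that point. -/
theorem fixed_line (hq : 3 ≤ C.q) {e : Fin 3 → F} (he : herm C e e = 1) {x : suG C (Fin 3)}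
    (hx : app C x e = e) (hord : orderOf x = C.q + 1) {u : Fin 3 → F} (hu : app C x u = u) :
    ∃ c : F, u = c • e := by
  obtain ⟨g, hg⟩ := exists_move C hq (d := 3) (by omega) he
  obtain ⟨y, hy⟩ := exists_loB C (g := g⁻¹ * x * g) (by
    rw [app_mul, app_mul, hg, hx, ← hg, app_inv_app])
  have hy' : orderOf y = C.q + 1 := by
    rw [← orderOf_injective (loB C) (loB_injective C), hy, show g⁻¹ * x * g = MulAut.conj g⁻¹ x by
      simp [MulAut.conj_apply], ← hord]
    exact orderOf_injective (MulAut.conj g⁻¹).toMonoidHom (MulAut.conj g⁻¹).injective x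
  set u' := app C g⁻¹ u with hu'
  have e1 : app C (loB C y) u' = u' := by rw [hy, hu', app_mul, app_mul, app_app_inv, hu]
  rw [app_loB] at e1
  have e2 : (![u' 1, u' 2] : Fin 2 → F) = 0 := eq_zero_of_fixed C hy' (by
    funext i
    fin_cases i
    · exact congrFun e1 1
    · exact congrFun e1 2)
  refine ⟨u' 0, ?_⟩
  rw [← app_app_inv C g u, ← hu', ← hg, ← app_smul]
  congr 1
  funext i
  fin_cases i
  · simp [basv]
  · simpa [basv] using congrFun e2 0
  · simpa [basv] using congrFun e2 1

/-- Two subgroups isomorphic to `SU_2` with commuting cyclic subgroups of order `q + 1`, generating a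
group isomorphic to `SU_3`, form a pair. -/
theorem exists_pair_of_iso (hq : 3 ≤ C.q) {G : Type*} [Group G] {A B DA DB : Subgroup G}
    (eA : suG C (Fin 2) ≃* A) (eB : suG C (Fin 2) ≃* B) (iso : ↥(A ⊔ B) ≃* suG C (Fin 3))
    (hA : DA ≤ A) [IsCyclic DA] (hDA : Nat.card DA = C.q + 1)
    (hB : DB ≤ B) [IsCyclic DB] (hDB : Nat.card DB = C.q + 1)
    (hcomm : ∀ x ∈ DA, ∀ y ∈ DB, Commute x y) :
    ∃ ψ : suG C (Fin 3) →* G, IsPair C ψ A B := by
  let αA := iso.toMonoidHom.comp ((Subgroup.inclusion (le_sup_left : A ≤ A ⊔ B)).comp eA.toMonoidHom)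
  let αB := iso.toMonoidHom.comp ((Subgroup.inclusion (le_sup_right : B ≤ A ⊔ B)).comp eB.toMonoidHom)
  have hαA : Function.Injective αA :=
    iso.injective.comp ((Subgroup.inclusion_injective (le_sup_left : A ≤ A ⊔ B)).comp eA.injective)
  have hαB : Function.Injective αB :=
    iso.injective.comp ((Subgroup.inclusion_injective (le_sup_right : B ≤ A ⊔ B)).comp eB.injective)
  obtain ⟨e, he, heA⟩ := exists_stab_range C hq hαA
  obtain ⟨f, hf, hfB⟩ := exists_stab_range C hq hαB
  -- the two points are distinct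
  have hmemA : ∀ x : ↥(A ⊔ B), (x : G) ∈ A ↔ app C (iso x) e = e := fun x => by
    rw [← heA]
    constructor
    · intro hx
      refine ⟨eA.symm ⟨x, hx⟩, congrArg iso (Subtype.ext ?_)⟩
      show ((eA (eA.symm ⟨x, hx⟩) : A) : G) = x
      rw [eA.apply_symm_apply]
    · rintro ⟨y, hy⟩
      rw [← iso.injective hy]
      exact (eA y).2
  have hmemB : ∀ x : ↥(A ⊔ B), (x : G) ∈ B ↔ app C (iso x) f = f := fun x => by
    rw [← hfB]
    constructor
    · intro hx
      refine ⟨eB.symm ⟨x, hx⟩, congrArg iso (Subtype.ext ?_)⟩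
      show ((eB (eB.symm ⟨x, hx⟩) : B) : G) = x
      rw [eB.apply_symm_apply]
    · rintro ⟨y, hy⟩
      rw [← iso.injective hy]
      exact (eB y).2
  have hindep : ∀ c : F, f ≠ c • e := by
    intro c hc
    have hc0 : c ≠ 0 := fun h => zero_ne_one (α := F) (by
      rw [← hf, hc, h, zero_smul, herm_zero_left])
    have hAB : ∀ x : ↥(A ⊔ B), (x : G) ∈ A := by
      intro x
      have hBA : B ≤ A := fun b hb => (hmemA ⟨b, (le_sup_right : B ≤ A ⊔ B) hb⟩).2 (by
        have h := (hmemB ⟨b, (le_sup_right : B ≤ A ⊔ B) hb⟩).1 hb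
        rw [hc, app_smul] at h
        exact smul_right_injective _ hc0 h)
      exact sup_le le_rfl hBA x.2
    obtain ⟨g, hg⟩ := exists_move C hq (d := 3) (by omega) he
    have h01 : nm C 0 + nm C 1 = 1 := by rw [nm_zero, zero_add, nm_one]
    have h := (hmemA (iso.symm (g * upB C (suTwo C 0 1 h01) * g⁻¹))).1 (hAB _)
    rw [iso.apply_symm_apply, app_mul, app_mul, ← hg, app_inv_app] at h
    have h' := congrArg (app C g⁻¹) h
    rw [app_inv_app, app_inv_app, app_upB] at h'
    have := congrFun h' 0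
    simp [app_suTwo, basv] at this
  -- generators of the two cyclic subgroups
  obtain ⟨a, ha⟩ := IsCyclic.exists_generator (α := DA)
  obtain ⟨b, hb⟩ := IsCyclic.exists_generator (α := DB)
  have hoa : orderOf (a : G) = C.q + 1 := by
    rw [Subgroup.orderOf_coe, orderOf_eq_card_of_forall_mem_zpowers ha, hDA]
  have hob : orderOf (b : G) = C.q + 1 := by
    rw [Subgroup.orderOf_coe, orderOf_eq_card_of_forall_mem_zpowers hb, hDB]
  set a' : ↥(A ⊔ B) := ⟨a, le_sup_left (b := B) (hA a.2)⟩ with ha'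
  set b' : ↥(A ⊔ B) := ⟨b, le_sup_right (a := A) (hB b.2)⟩ with hb'
  have oa : orderOf (iso a') = C.q + 1 := by
    rw [MulEquiv.orderOf_eq, ← Subgroup.orderOf_coe]; exact hoa
  have ob : orderOf (iso b') = C.q + 1 := by
    rw [MulEquiv.orderOf_eq, ← Subgroup.orderOf_coe]; exact hob
  have hab : iso a' * iso b' = iso b' * iso a' := by
    rw [← map_mul, ← map_mul]
    exact congrArg iso (Subtype.ext (hcomm _ a.2 _ b.2))
  have hae : app C (iso a') e = e := (hmemA a').1 (hA a.2)
  have hbf : app C (iso b') f = f := (hmemB b').1 (hB b.2)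
  have hef : herm C e f = 0 := by
    obtain ⟨μ, hμ⟩ := fixed_line C hq he hae oa (u := app C (iso b') e) (by
      rw [← app_mul, hab, app_mul, hae])
    have h := herm_app C (iso b') e f
    rw [hμ, hbf, herm_smul_left] at h
    by_contra hne
    have hμ1 : μ = 1 := mul_right_cancel₀ hne (by rw [one_mul]; exact h)
    rw [hμ1, one_smul] at hμ
    obtain ⟨c, hc⟩ := fixed_line C hq hf hbf ob hμ
    refine hindep c⁻¹ ?_
    rw [hc, smul_smul, inv_mul_cancel₀, one_smul]
    rintro rfl
    rw [zero_smul] at hc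
    rw [hc, herm_zero_left] at he
    exact zero_ne_one he
  -- the frame
  obtain ⟨g1, g10, g11⟩ := exists_frame_pair C hq (k := 2) le_rfl hf he hef
  set w := app C g1 (basv 3 2) with hw
  have hwf : herm C w f = 0 := by rw [← g10, hw, herm_app, herm_basv_ne C (by omega) (by omega)]
  have hwe : herm C w e = 0 := by rw [← g11, hw, herm_app, herm_basv_ne C (by omega) (by omega)]
  obtain ⟨g, g0, g1'⟩ := exists_frame_pair C hq (k := 2) le_rfl hf
    (show herm C w w = 1 by rw [hw, herm_app, herm_basv_self C (by omega)]) hwf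
  obtain ⟨c, hc⟩ := eq_smul_of_perp_two C (g := g) (x := e) (by rw [g0]; exact hef)
    (by rw [g1']; exact herm_perp_comm C hwe)
  have hc0 : c ≠ 0 := fun h => zero_ne_one (α := F) (by rw [← he, hc, h, zero_smul, herm_zero_left])
  let θ : suG C (Fin 3) →* G :=
    (A ⊔ B).subtype.comp (iso.symm.toMonoidHom.comp (MulAut.conj g).toMonoidHom)
  have hθ : Function.Injective θ :=
    Subtype.val_injective.comp (iso.symm.injective.comp (MulAut.conj g).injective)
  refine ⟨θ, hθ.comp (upB_injective C), hθ.comp (loB_injective C), ?_, ?_⟩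
  · refine le_antisymm ?_ fun x hx => ?_
    · rintro _ ⟨y, rfl⟩
      refine (hmemA (iso.symm (g * upB C y * g⁻¹))).2 ?_
      rw [iso.apply_symm_apply, hc, app_smul, app_mul, app_mul, app_inv_app, upB_fix]
    · have h := (hmemA ⟨x, le_sup_left (b := B) hx⟩).1 hx
      rw [hc, app_smul] at h
      obtain ⟨y, hy⟩ := exists_upB C (g := g⁻¹ * iso ⟨x, le_sup_left (b := B) hx⟩ * g) (by
        rw [app_mul, app_mul, smul_right_injective _ hc0 h, app_inv_app])
      refine ⟨y, ?_⟩
      show ((iso.symm (g * upB C y * g⁻¹) : ↥(A ⊔ B)) : G) = x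
      rw [hy, show g * (g⁻¹ * iso ⟨x, le_sup_left (b := B) hx⟩ * g) * g⁻¹ =
        iso ⟨x, le_sup_left (b := B) hx⟩ by group, iso.symm_apply_apply]
  · refine le_antisymm ?_ fun x hx => ?_
    · rintro _ ⟨y, rfl⟩
      refine (hmemB (iso.symm (g * loB C y * g⁻¹))).2 ?_
      rw [iso.apply_symm_apply, ← g0, app_mul, app_mul, app_inv_app, loB_fix]
    · have h := (hmemB ⟨x, le_sup_right (a := A) hx⟩).1 hx
      rw [← g0] at h
      obtain ⟨y, hy⟩ := exists_loB C (g := g⁻¹ * iso ⟨x, le_sup_right (a := A) hx⟩ * g) (by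
        rw [app_mul, app_mul, h, app_inv_app])
      refine ⟨y, ?_⟩
      show ((iso.symm (g * loB C y * g⁻¹) : ↥(A ⊔ B)) : G) = x
      rw [hy, show g * (g⁻¹ * iso ⟨x, le_sup_right (a := A) hx⟩ * g) * g⁻¹ =
        iso ⟨x, le_sup_right (a := A) hx⟩ by group, iso.symm_apply_apply]

end CfsgLib.Phan
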