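import Cfsg.Agent.Phan.Graph
import Cfsg.Agent.AutPSL.Structure
import Cfsg.Agent.FGS.FieldModule

/-!
# Automorphisms of `SU_2` preserving the diagonal torus
-/

set_option autoImplicit false
set_option linter.unusedSectionVars false

namespace CfsgLib.Phan

open CfsgLib.RepBounds.Unit Matrix

variable {F : Type*} [Field F] [Fintype F] (C : ConjField F)

theorem map_conj (τ : F →+* F) (x : F) : τ (C.σ x) = C.σ (τ x) := by
  rw [C.pow, C.pow, map_pow]

theorem nm_map (τ : F →+* F) (x : F) : nm C (τ x) = τ (nm C x) := by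
  rw [nm, nm, map_mul, map_conj]

/-- A unit of norm one different from its conjugate. -/
theorem exists_norm_one_ne (hq : 3 ≤ C.q) : ∃ a : F, nm C a = 1 ∧ C.σ a ≠ a := by
  classical
  by_contra h
  push Not at h
  have hsub : (Finset.univ : Finset F) ⊆ (Finset.univ.filter fun x => C.σ x = x) ∪
      (Finset.univ.filter fun x => x ∈ C.skew) := by
    intro x _
    rw [Finset.mem_union, Finset.mem_filter, Finset.mem_filter]
    by_cases hx0 : x = 0
    · exact Or.inl ⟨Finset.mem_univ _, by rw [hx0, map_zero]⟩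
    have hσ : C.σ x ≠ 0 := (map_ne_zero C.σ).2 hx0
    have h1 := h (x / C.σ x) (by rw [nm, map_div₀, C.invol]; field_simp)
    rw [map_div₀, C.invol, div_eq_div_iff hx0 hσ] at h1
    rcases mul_self_eq_mul_self_iff.1 h1 with e | e
    · exact Or.inl ⟨Finset.mem_univ _, e⟩
    · exact Or.inr ⟨Finset.mem_univ _, by rw [C.mem_skew, e]; ring⟩
  have hc := (Finset.card_le_card hsub).trans (Finset.card_union_le _ _)
  rw [card_fixed C, Finset.card_univ, C.card, ← Fintype.card_subtype,
    ← Nat.card_eq_fintype_card] at hc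
  have hs : Nat.card {x : F // x ∈ C.skew} = C.q := C.card_skew
  rw [hs] at hc
  nlinarith

section transfer

/-- The fixed field of the involution. -/
def fixField : Subfield F := RingHom.eqLocusField C.σ (RingHom.id F)

theorem mem_fixField {x : F} : x ∈ fixField C ↔ C.σ x = x := Iff.rfl

/-- A change of coordinates identifying `SU_2` with `SL_2` of the fixed field. -/
theorem exists_conjugator :
    ∃ P : GL (Fin 2) F, ∀ M : Matrix (Fin 2) (Fin 2) F, M.det = 1 →
      ((∀ u v : Fin 2 → F, herm C (M *ᵥ u) (M *ᵥ v) = herm C u v) ↔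
        ∀ i j, (P.1 * M * (P⁻¹).1) i j ∈ fixField C) := by
  obtain ⟨x, hx⟩ : ∃ x, C.σ x ≠ x := by
    by_contra! h
    exact C.ne_id (RingHom.ext h)
  set d := x - C.σ x with hd
  have hd0 : d ≠ 0 := sub_ne_zero.2 (Ne.symm hx)
  have hσd : C.σ d = -d := by rw [hd, map_sub, C.invol]; ring
  set c := -(d * d) with hc
  have hc0 : c ≠ 0 := neg_ne_zero.2 (mul_ne_zero hd0 hd0)
  have hσc : C.σ c = c := by rw [hc, map_neg, map_mul, hσd]; ring
  obtain ⟨s, hs⟩ := exists_nm_eq C (c := c⁻¹) (by rw [map_inv₀, hσc])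
  obtain ⟨t, ht⟩ := exists_nm_eq C (c := -c⁻¹) (by rw [map_neg, map_inv₀, hσc])
  let P : Matrix (Fin 2) (Fin 2) F := !![s, t; s * x, t * C.σ x]
  have hPdet : P.det ≠ 0 := by
    rw [Matrix.det_fin_two_of]
    have : s * (t * C.σ x) - t * (s * x) = -(s * t * d) := by rw [hd]; ring
    rw [this]
    refine neg_ne_zero.2 (mul_ne_zero (mul_ne_zero ?_ ?_) hd0) <;> rintro rfl
    · rw [nm_zero] at hs; exact inv_ne_zero hc0 hs.symm
    · rw [nm_zero] at ht; exact neg_ne_zero.2 (inv_ne_zero hc0) ht.symm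
  let Pu : GL (Fin 2) F := GeneralLinearGroup.mkOfDetNeZero P hPdet
  let h : (Fin 2 → F) → (Fin 2 → F) → F := fun a b => d * (a 0 * C.σ (b 1) - a 1 * C.σ (b 0))
  have key : ∀ u v, herm C u v = h (Pu.1 *ᵥ u) (Pu.1 *ᵥ v) := by
    intro u v
    have h1 : c * c⁻¹ = 1 := mul_inv_cancel₀ hc0
    show herm C u v = h (P *ᵥ u) (P *ᵥ v)
    simp only [herm, Fin.sum_univ_two, h, P]
    simp [Matrix.mulVec, vecHead, vecTail, C.invol]
    simp only [nm] at hs ht
    rw [hc, hd] at *
    linear_combination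
      (u 0 * C.σ (v 0) * ((x - C.σ x) * (x - C.σ x))) * hs -
      (u 1 * C.σ (v 1) * ((x - C.σ x) * (x - C.σ x))) * ht -
      (u 0 * C.σ (v 0) + u 1 * C.σ (v 1)) * h1
  refine ⟨Pu, fun M hM => ?_⟩
  set N := Pu.1 * M * (Pu⁻¹).1 with hN
  have hN1 : N * Pu.1 = Pu.1 * M := by rw [hN, Units.inv_mul_cancel_right]
  have hdetN : N.det = 1 := by
    rw [hN, Matrix.det_units_conj, hM]
  have hdet : N 0 0 * N 1 1 - N 0 1 * N 1 0 = 1 := by rw [← Matrix.det_fin_two, hdetN]
  constructor
  · intro hpres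
    have hN2 : ∀ a b, h (N *ᵥ a) (N *ᵥ b) = h a b := by
      intro a b
      have := hpres ((Pu⁻¹).1 *ᵥ a) ((Pu⁻¹).1 *ᵥ b)
      rwa [key, key, Matrix.mulVec_mulVec, Matrix.mulVec_mulVec, Matrix.mulVec_mulVec,
        Matrix.mulVec_mulVec, Matrix.mulVec_mulVec, Matrix.mulVec_mulVec, ← hN,
        ← Units.val_mul, mul_inv_cancel, Units.val_one, Matrix.one_mulVec, Matrix.one_mulVec] at this
    have e : ∀ i j, N 0 i * C.σ (N 1 j) - N 1 i * C.σ (N 0 j) =
        (if i = 0 ∧ j = 1 then 1 else 0) - (if i = 1 ∧ j = 0 then 1 else 0) := by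
      intro i j
      have := hN2 (Pi.single i 1) (Pi.single j 1)
      simp only [h, Matrix.mulVec_single_one] at this
      have h2 := mul_left_cancel₀ hd0 this
      fin_cases i <;> fin_cases j <;> simpa using h2
    have e00 := e 0 0
    have e10 := e 1 0
    have e01 := e 0 1
    have e11 := e 1 1
    simp at e00 e10 e01 e11
    intro i j
    rw [mem_fixField]
    fin_cases i <;> fin_cases j <;> simp only [Fin.zero_eta, Fin.mk_one]
    · linear_combination (N 0 1) * e00 - (N 0 0) * e10 - C.σ (N 0 0) * hdet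
    · linear_combination (N 0 1) * e01 - (N 0 0) * e11 - C.σ (N 0 1) * hdet
    · linear_combination (N 1 1) * e00 - (N 1 0) * e10 - C.σ (N 1 0) * hdet
    · linear_combination (N 1 1) * e01 - (N 1 0) * e11 - C.σ (N 1 1) * hdet
  · intro hfix u v
    have e : ∀ w, Pu.1 *ᵥ (M *ᵥ w) = N *ᵥ (Pu.1 *ᵥ w) := fun w => by
      rw [Matrix.mulVec_mulVec, Matrix.mulVec_mulVec, hN1]
    rw [key, key, e, e]
    have f : ∀ i j, C.σ (N i j) = N i j := hfix
    clear_value N
    generalize Pu.1 *ᵥ u = a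
    generalize Pu.1 *ᵥ v = b
    simp [h, Matrix.mulVec, dotProduct, Fin.sum_univ_two, f]
    left
    linear_combination (a 0 * C.σ (b 1) - a 1 * C.σ (b 0)) * hdet

/-- `SU_2` is isomorphic to `SL_2` of the fixed field by a change of coordinates. -/
theorem exists_equiv :
    ∃ (P : GL (Fin 2) F) (e : suG C (Fin 2) ≃* SpecialLinearGroup (Fin 2) (fixField C)),
      ∀ x, (e x).1.map (fixField C).subtype = P.1 * x.1.1 * (P⁻¹).1 := by
  classical
  obtain ⟨P, hP⟩ := exists_conjugator C
  have hfwd : ∀ x : suG C (Fin 2), ∃ G : SpecialLinearGroup (Fin 2) (fixField C),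
      G.1.map (fixField C).subtype = P.1 * x.1.1 * (P⁻¹).1 := by
    intro x
    have hf := (hP x.1.1 x.1.2).1 x.2
    let N : Matrix (Fin 2) (Fin 2) (fixField C) :=
      Matrix.of fun i j => ⟨(P.1 * x.1.1 * (P⁻¹).1) i j, hf i j⟩
    have hN : N.map (fixField C).subtype = P.1 * x.1.1 * (P⁻¹).1 := by ext i j; rfl
    refine ⟨⟨N, (fixField C).subtype.injective ?_⟩, hN⟩
    rw [RingHom.map_det, RingHom.mapMatrix_apply, hN, map_one, Matrix.det_units_conj, x.1.2]
  choose φ hφ using hfwd
  have hinjK : Function.Injective fun G : SpecialLinearGroup (Fin 2) (fixField C) =>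
      G.1.map (fixField C).subtype := fun G H e =>
    Subtype.ext (Matrix.map_injective (fixField C).subtype.injective e)
  let Φ : suG C (Fin 2) →* SpecialLinearGroup (Fin 2) (fixField C) := MonoidHom.mk' φ fun x y => by
    refine hinjK ?_
    show (φ (x * y)).1.map _ = ((φ x).1 * (φ y).1).map _
    rw [Matrix.map_mul, hφ, hφ, hφ]
    show P.1 * (x.1.1 * y.1.1) * (P⁻¹).1 = _
    simp only [mul_assoc]
    rw [← mul_assoc (P⁻¹).1 P.1, ← Units.val_mul, inv_mul_cancel, Units.val_one, one_mul]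
  have hbij : Function.Bijective Φ := by
    constructor
    · intro x y e
      have e' : P.1 * x.1.1 * (P⁻¹).1 = P.1 * y.1.1 * (P⁻¹).1 := by rw [← hφ, ← hφ]; exact congrArg (fun N : SpecialLinearGroup (Fin 2) (fixField C) => N.1.map (fixField C).subtype) e
      rw [Units.mul_left_inj, Units.mul_right_inj] at e'
      exact Subtype.ext (Subtype.ext e')
    · intro G
      set M := (P⁻¹).1 * G.1.map (fixField C).subtype * P.1 with hM
      have hMd : M.det = 1 := by
        rw [hM, Matrix.det_units_conj', ← RingHom.mapMatrix_apply, ← RingHom.map_det, G.2, map_one]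
      have hback : P.1 * M * (P⁻¹).1 = G.1.map (fixField C).subtype := by
        rw [hM]
        simp [mul_assoc]
      have hmem := (hP M hMd).2 (fun i j => by rw [hback]; exact (G.1 i j).2)
      refine ⟨⟨⟨M, hMd⟩, hmem⟩, hinjK ?_⟩
      show (φ _).1.map _ = _
      rw [hφ]
      exact hback
  exact ⟨P, MulEquiv.ofBijective Φ hbij, hφ⟩

/-- Every automorphism of `SU_2` is semilinear conjugation. -/
theorem exists_semilinear (δ : MulAut (suG C (Fin 2))) :
    ∃ (τ : F →+* F) (M : GL (Fin 2) F), ∀ x, (δ x).1.1 * M.1 = M.1 * x.1.1.map τ := by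
  classical
  obtain ⟨P, e, hφ⟩ := exists_equiv C
  obtain ⟨p, hchar⟩ := CharP.exists F
  haveI : Fact p.Prime := ⟨CharP.char_is_prime F p⟩
  haveI : CharP (fixField C) p := (fixField C).subtype.charP Subtype.val_injective p
  haveI : Fintype (fixField C) := Fintype.ofFinite _
  let α : MulAut (SpecialLinearGroup (Fin 2) (fixField C)) := e.symm.trans (δ.trans e)
  obtain ⟨g, τ, γ, hγ, hform⟩ := CfsgLib.AutPSL.exists_form (le_refl 2) (CfsgLib.AutPSL.toPSLAut α)
  have hα : α = CfsgLib.AutPSL.conjSL g * CfsgLib.AutPSL.fieldSL τ * γ :=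
    CfsgLib.AutPSL.toPSLAut_injective p hform
  -- absorb the inverse-transpose into a conjugation
  obtain ⟨g', hg'⟩ : ∃ g' : GL (Fin 2) (fixField C), ∀ G, (α G).1 * g'.1 = g'.1 * G.1.map τ := by
    rcases hγ with rfl | rfl
    · refine ⟨g, fun G => ?_⟩
      rw [hα, mul_one]
      show g.1 * G.1.map τ * (g⁻¹).1 * g.1 = _
      rw [Units.inv_mul_cancel_right]
    · let J : GL (Fin 2) (fixField C) :=
        GeneralLinearGroup.mkOfDetNeZero !![0, 1; -1, 0] (by rw [Matrix.det_fin_two_of]; simp)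
      refine ⟨g * J, fun G => ?_⟩
      rw [hα]
      show g.1 * ((G⁻¹).transpose).1.map τ * (g⁻¹).1 * (g * J).1 = (g * J).1 * G.1.map τ
      rw [Units.val_mul, ← mul_assoc, Units.inv_mul_cancel_right, mul_assoc, mul_assoc]
      congr 1
      show ((G⁻¹).1.transpose).map τ * !![0, 1; -1, 0] = !![0, 1; -1, 0] * G.1.map τ
      rw [show (G⁻¹).1 = G.1.adjugate from rfl, Matrix.adjugate_fin_two]
      ext i j
      fin_cases i <;> fin_cases j <;> simp [Matrix.mul_apply, Fin.sum_univ_two]
  obtain ⟨i, hi⟩ := CfsgLib.FGS.FieldModule.exists_eq_pow_pow (p := p) (τ : fixField C →+* fixField C)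
  let τ' : F →+* F := iterateFrobenius F p i
  have hτ : ∀ a : fixField C, ((τ a : fixField C) : F) = τ' (a : F) := fun a => by
    rw [show τ a = a ^ p ^ i from hi a]
    show _ = iterateFrobenius F p i (a : F)
    rw [iterateFrobenius_def]
    rfl
  let g2 : GL (Fin 2) F := Units.map (RingHom.mapMatrix (fixField C).subtype).toMonoidHom g'
  let Pτ : GL (Fin 2) F := Units.map (RingHom.mapMatrix τ').toMonoidHom P
  refine ⟨τ', P⁻¹ * g2 * Pτ, fun x => ?_⟩
  have h1 : α (e x) = e (δ x) := by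
    show e (δ (e.symm (e x))) = _
    rw [e.symm_apply_apply]
  have h2 := congrArg (fun N : Matrix (Fin 2) (Fin 2) (fixField C) => N.map (fixField C).subtype)
    (hg' (e x))
  simp only [h1, Matrix.map_mul] at h2
  have e1 : ∀ y, (e y).1.map (fixField C).subtype = P.1 * y.1.1 * (P⁻¹).1 := hφ
  have e2 : ((e x).1.map τ).map (fixField C).subtype = Pτ.1 * x.1.1.map τ' * (Pτ⁻¹).1 := by
    have : ((e x).1.map τ).map (fixField C).subtype = ((e x).1.map (fixField C).subtype).map τ' := by
      ext a b; exact hτ _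
    rw [this, e1, Matrix.map_mul, Matrix.map_mul]
    rfl
  rw [e1, e2] at h2
  change P.1 * (δ x).1.1 * (P⁻¹).1 * g2.1 = g2.1 * (Pτ.1 * x.1.1.map τ' * (Pτ⁻¹).1) at h2
  have h3 := congrArg (fun N => (P⁻¹).1 * N * Pτ.1) h2
  simp only [mul_assoc, Units.inv_mul, mul_one, Units.inv_mul_cancel_left] at h3
  rw [Units.val_mul, Units.val_mul]
  simpa only [mul_assoc] using h3

end transfer

/-- An automorphism of `SU_2` preserving the diagonal torus is diagonal semilinear, given a non-fixed
element of norm one. -/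
theorem exists_diag_semilinear_aux (hex : ∃ a : F, nm C a = 1 ∧ C.σ a ≠ a)
    (δ : MulAut (suG C (Fin 2)))
    (hδ : ∀ a (h : nm C a + nm C 0 = 1),
      app C (δ (suTwo C a 0 h)) (basv 2 0) 1 = 0) :
    ∃ (τ : F →+* F) (c : F), nm C c = 1 ∧ ∀ a b (h : nm C a + nm C b = 1),
      app C (δ (suTwo C a b h)) (basv 2 0) = ![τ a, c * τ b] := by
  obtain ⟨τ, M, hM⟩ := exists_semilinear C δ
  obtain ⟨a, ha, hne⟩ := hex
  have hτne : τ (C.σ a) ≠ τ a := fun h => hne (τ.injective h)
  have ha0 : nm C a + nm C 0 = 1 := by rw [nm_zero, add_zero, ha]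
  have hcol : ∀ (x : suG C (Fin 2)) (i : Fin 2), x.1.1 i 0 = app C x (basv 2 0) i := by
    intro x i
    fin_cases i <;> simp [app, Matrix.mulVec, dotProduct, Fin.sum_univ_two, basv]
  have hmat : ∀ x : suG C (Fin 2), x.1.1 = suTwoMat C (x.1.1 0 0) (x.1.1 1 0) := by
    intro x
    obtain ⟨h, e⟩ := eq_suTwo C x
    rw [hcol, hcol]
    conv_lhs => rw [e]
    rfl
  have hD := hM (suTwo C a 0 ha0)
  set d := δ (suTwo C a 0 ha0) with hd
  have hd1 : d.1.1 1 0 = 0 := by rw [hcol]; exact hδ a ha0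
  rw [hmat d, hd1] at hD
  have q00 := congrFun (congrFun hD 0) 0
  have q01 := congrFun (congrFun hD 0) 1
  have q10 := congrFun (congrFun hD 1) 0
  have q11 := congrFun (congrFun hD 1) 1
  simp [suTwo, suTwoMat, Matrix.mul_apply, Fin.sum_univ_two] at q00 q01 q10 q11
  have hdet : M.1 0 0 * M.1 1 1 - M.1 0 1 * M.1 1 0 ≠ 0 := by
    rw [← Matrix.det_fin_two]
    exact (Matrix.GeneralLinearGroup.det M).ne_zero
  obtain ⟨τ', c, hτc⟩ : ∃ (τ' : F →+* F) (c : F), ∀ a b (h : nm C a + nm C b = 1),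
      app C (δ (suTwo C a b h)) (basv 2 0) = ![τ' a, c * τ' b] := by
    by_cases h00 : M.1 0 0 = 0
    · -- antidiagonal
      have h01 : M.1 0 1 ≠ 0 := fun h => hdet (by rw [h00, h]; ring)
      have h10 : M.1 1 0 ≠ 0 := fun h => hdet (by rw [h00, h]; ring)
      have h11 : M.1 1 1 = 0 := by
        by_contra h11
        apply hτne
        have e1 : C.σ (d.1.1 0 0) = τ a := mul_left_cancel₀ h10 (by linear_combination q10)
        have e2 : C.σ (d.1.1 0 0) = τ (C.σ a) := mul_left_cancel₀ h11 (by linear_combination q11)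
        rw [← e1, ← e2]
      refine ⟨C.σ.comp τ, -(M.1 1 0) / M.1 0 1, fun x y h => ?_⟩
      have hx := hM (suTwo C x y h)
      rw [hmat (δ (suTwo C x y h)), show (suTwo C x y h).1.1 = suTwoMat C x y from rfl] at hx
      have r01 := congrFun (congrFun hx 0) 1
      have r11 := congrFun (congrFun hx 1) 1
      simp [suTwoMat, Matrix.mul_apply, Fin.sum_univ_two, h00, h11] at r01 r11
      funext i
      fin_cases i <;> simp only [Fin.zero_eta, Fin.mk_one]
      · rw [← hcol]
        show _ = C.σ (τ x)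
        rw [← map_conj]
        exact mul_left_cancel₀ h01 (by linear_combination r01)
      · rw [← hcol]
        show _ = -(M.1 1 0) / M.1 0 1 * C.σ (τ y)
        rw [← map_conj, div_mul_eq_mul_div, eq_div_iff h01]
        linear_combination r11
    · have h01 : M.1 0 1 = 0 := by
        by_contra h01
        apply hτne
        have e1 : d.1.1 0 0 = τ a := mul_left_cancel₀ h00 (by linear_combination q00)
        have e2 : d.1.1 0 0 = τ (C.σ a) := mul_left_cancel₀ h01 (by linear_combination q01)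
        rw [← e1, ← e2]
      have h11 : M.1 1 1 ≠ 0 := fun h => hdet (by rw [h01, h]; ring)
      have h10 : M.1 1 0 = 0 := by
        by_contra h10
        apply hτne
        have e1 : C.σ (d.1.1 0 0) = τ a := mul_left_cancel₀ h10 (by linear_combination q10)
        have e2 : C.σ (d.1.1 0 0) = τ (C.σ a) := mul_left_cancel₀ h11 (by linear_combination q11)
        rw [← e1, ← e2]
      refine ⟨τ, M.1 1 1 / M.1 0 0, fun x y h => ?_⟩
      have hx := hM (suTwo C x y h)
      rw [hmat (δ (suTwo C x y h)), show (suTwo C x y h).1.1 = suTwoMat C x y from rfl] at hx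
      have r00 := congrFun (congrFun hx 0) 0
      have r10 := congrFun (congrFun hx 1) 0
      simp [suTwoMat, Matrix.mul_apply, Fin.sum_univ_two, h01, h10] at r00 r10
      funext i
      fin_cases i <;> simp only [Fin.zero_eta, Fin.mk_one]
      · rw [← hcol]
        show _ = τ x
        exact mul_left_cancel₀ h00 (by linear_combination r00)
      · rw [← hcol]
        show _ = M.1 1 1 / M.1 0 0 * τ y
        rw [div_mul_eq_mul_div, eq_div_iff h00]
        linear_combination r10
  refine ⟨τ', c, ?_, hτc⟩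
  have h1 : nm C 0 + nm C 1 = 1 := by rw [nm_zero, zero_add, nm_one]
  have := herm_app C (δ (suTwo C 0 1 h1)) (basv 2 0) (basv 2 0)
  rw [herm_basv_self C (by omega), hτc] at this
  simpa [herm, Fin.sum_univ_two, nm] using this

/-- An automorphism of `SU_2` preserving the diagonal torus is diagonal semilinear. -/
theorem exists_diag_semilinear (hq : 3 ≤ C.q) (δ : MulAut (suG C (Fin 2)))
    (hδ : ∀ a (h : nm C a + nm C 0 = 1),
      app C (δ (suTwo C a 0 h)) (basv 2 0) 1 = 0) :
    ∃ (τ : F →+* F) (c : F), nm C c = 1 ∧ ∀ a b (h : nm C a + nm C b = 1),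
      app C (δ (suTwo C a b h)) (basv 2 0) = ![τ a, c * τ b] :=
  exists_diag_semilinear_aux C (exists_norm_one_ne C hq) δ hδ

end CfsgLib.Phan
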